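import Cfsg.Agent.Lib.XE.Rel
import Cfsg.Agent.Lib.Ess.Extra

/-!
The symplectic space of an extraspecial subgroup of index `p`.
-/

set_option autoImplicit false
set_option linter.style.haveILetI false
set_option linter.unusedVariables false
set_option linter.unusedSectionVars false

namespace Cfsg.Agent.XE

open Subgroup Cfsg.Agent.Fus Cfsg.Agent.TwoGrp Cfsg.Agent.Ess Module
open Cfsg.Agent.Fus2 (HomOn)
open scoped commutatorElement

universe u

variable {G : Type u} [Group G] {p : ℕ} [hp : Fact p.Prime]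

open Classical in
/-- The discrete logarithm. -/
noncomputable def lg (p : ℕ) (z x : G) : ZMod p := if h : ∃ k : ZMod p, x = zp z k then h.choose else 0

theorem zp_lg {z x : G} (hz : z ^ p = 1) (hx : x ∈ zpowers z) : zp z (lg p z x) = x := by
  have h := (mem_zpowers_iff_zp hz).1 hx
  rw [lg, dif_pos h]
  exact h.choose_spec.symm

theorem zp_inj {z : G} (hz : z ^ p = 1) (h1 : z ≠ 1) {i j : ZMod p} (h : zp z i = zp z j) :
    i = j := zp_injective (orderOf_eq_of_ne_one hz h1) h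

theorem zp_eq_one {z : G} (hz : z ^ p = 1) (h1 : z ≠ 1) {i : ZMod p} : zp z i = 1 ↔ i = 0 :=
  ⟨fun h => zp_inj hz h1 (h.trans zp_zero.symm), fun h => h ▸ zp_zero⟩

theorem lg_mul {z x y : G} (hz : z ^ p = 1) (h1 : z ≠ 1) (hx : x ∈ zpowers z)
    (hy : y ∈ zpowers z) : lg p z (x * y) = lg p z x + lg p z y :=
  zp_inj hz h1 (by rw [zp_add hz, zp_lg hz hx, zp_lg hz hy, zp_lg hz (mul_mem hx hy)])

theorem lg_one {z : G} (hz : z ^ p = 1) (h1 : z ≠ 1) : lg p z 1 = 0 :=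
  (zp_eq_one hz h1).1 (zp_lg hz (one_mem _))

theorem homOn_zp {P : Subgroup G} {H : Type*} [Group H] {f : G → H} (h : HomOn P f) {x : G}
    (hx : x ∈ P) (k : ZMod p) : f (zp x k) = zp (f x) k := h.map_zpow hx _

/-- `b x b⁻¹ = x * dl b x`. -/
def dl (b x : G) : G := x⁻¹ * (b * x * b⁻¹)

omit hp in
theorem mul_dl (b x : G) : x * dl b x = b * x * b⁻¹ := mul_inv_cancel_left _ _

omit hp in
theorem mul_eq_dl (b x : G) : b * x = x * dl b x * b := by rw [mul_dl, inv_mul_cancel_right]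

omit hp in
theorem dl_eq_one {b x : G} : dl b x = 1 ↔ Commute b x := by
  rw [dl, inv_mul_eq_one, eq_comm, conj_eq_iff_commute]

omit hp in
theorem dl_mul (b x y : G) : dl b (x * y) = y⁻¹ * dl b x * y * dl b y := by
  simp only [dl]; group

omit hp in
theorem dl_eq_comm (b x : G) : dl b x = ⁅x⁻¹, b⁆ := inv_mul_conj_eq x b

section Lq

variable {V : Type*} [AddCommGroup V] [Module (ZMod p) V]

/-- `π` identifies `Q / Z` with the vector space `V`. -/
structure Lq (Q Z : Subgroup G) (π : G → V) : Prop where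
  add : ∀ x ∈ Q, ∀ y ∈ Q, π (x * y) = π x + π y
  ker : ∀ x ∈ Q, π x = 0 ↔ x ∈ Z
  surj : ∀ v, ∃ x ∈ Q, π x = v

theorem exists_lq {Q Z : Subgroup G} [Finite Q] (hc : ∀ x ∈ Q, ∀ y ∈ Q, ⁅x, y⁆ ∈ Z)
    (hpow : ∀ x ∈ Q, x ^ p ∈ Z) : ∃ (V : Type u) (_ : AddCommGroup V) (_ : Module (ZMod p) V)
      (_ : Finite V) (π : G → V), Lq Q Z π := by
  haveI : (Z.subgroupOf Q).Normal := ⟨fun x hx g => by
    have := Z.mul_mem (hc g g.2 x x.2) (show (x : G) ∈ Z from hx)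
    rw [commutatorElement_def, inv_mul_cancel_right] at this
    exact this⟩
  letI : CommGroup (Q ⧸ Z.subgroupOf Q) := { (inferInstance : Group (Q ⧸ Z.subgroupOf Q)) with
    mul_comm := fun x y => by
      obtain ⟨x, rfl⟩ := QuotientGroup.mk_surjective x
      obtain ⟨y, rfl⟩ := QuotientGroup.mk_surjective y
      exact ((mk_commute_iff (N := Z.subgroupOf Q)).2 (hc x x.2 y y.2)).eq }
  refine ⟨Additive (Q ⧸ Z.subgroupOf Q), inferInstance, AddCommGroup.zmodModule fun x => ?_,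
    inferInstance, fun x => Additive.ofMul (Fus2.fn (QuotientGroup.mk' (Z.subgroupOf Q)) x),
    fun x hx y hy => congrArg Additive.ofMul (Fus2.homOn_fn _ x hx y hy), fun x hx => ?_,
    fun v => ?_⟩
  · obtain ⟨y, hy⟩ := QuotientGroup.mk_surjective x.toMul
    have : x.toMul ^ p = 1 := by
      rw [← hy, ← QuotientGroup.mk_pow, QuotientGroup.eq_one_iff]; exact hpow y y.2
    exact this
  · rw [Fus2.fn_apply _ hx]
    exact QuotientGroup.eq_one_iff (N := Z.subgroupOf Q) ⟨x, hx⟩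
  · obtain ⟨y, hy⟩ := QuotientGroup.mk_surjective v.toMul
    exact ⟨y, y.2, by rw [Fus2.fn_apply _ y.2]; exact congrArg Additive.ofMul hy⟩

namespace Lq

variable {Q Z : Subgroup G} {π : G → V} (h : Lq Q Z π)
include h

omit hp [Module (ZMod p) V] in
theorem homOn : HomOn Q fun x => Multiplicative.ofAdd (π x) := fun x hx y hy =>
  congrArg Multiplicative.ofAdd (h.add x hx y hy)

omit hp [Module (ZMod p) V] in
theorem one : π 1 = 0 := h.homOn.map_one

omit hp [Module (ZMod p) V] in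
theorem inv {x : G} (hx : x ∈ Q) : π x⁻¹ = -π x := h.homOn.map_inv hx

omit hp [Module (ZMod p) V] in
theorem pow {x : G} (hx : x ∈ Q) (n : ℕ) : π (x ^ n) = n • π x := h.homOn.map_pow hx n

theorem zp {x : G} (hx : x ∈ Q) (k : ZMod p) : π (zp x k) = k • π x := by
  rw [zp_val, h.pow hx, ← Nat.cast_smul_eq_nsmul (ZMod p), ZMod.natCast_zmod_val]

omit hp [Module (ZMod p) V] in
theorem eq_iff {x y : G} (hx : x ∈ Q) (hy : y ∈ Q) : π x = π y ↔ x⁻¹ * y ∈ Z := by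
  rw [← h.ker _ (mul_mem (inv_mem hx) hy), h.add _ (inv_mem hx) _ hy, h.inv hx, neg_add_eq_zero]

omit hp [Module (ZMod p) V] in
theorem conj {x y : G} (hx : x ∈ Q) (hy : y ∈ Q) : π (x * y * x⁻¹) = π y := by
  rw [h.add _ (mul_mem hx hy) _ (inv_mem hx), h.add _ hx _ hy, h.inv hx]; abel

theorem exists_lin {W : Type*} [AddCommGroup W] [Module (ZMod p) W] {g : G → W}
    (hg : ∀ x ∈ Q, ∀ y ∈ Q, g (x * y) = g x + g y) (hZ : ∀ x ∈ Q, x ∈ Z → g x = 0) :
    ∃ L : V →ₗ[ZMod p] W, ∀ x ∈ Q, L (π x) = g x := by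
  choose s hs hs' using h.surj
  have key : ∀ x ∈ Q, ∀ y ∈ Q, π x = π y → g x = g y := fun x hx y hy e => by
    have := hg x hx _ (mul_mem (inv_mem hx) hy)
    rwa [mul_inv_cancel_left, hZ _ (mul_mem (inv_mem hx) hy) ((h.eq_iff hx hy).1 e), add_zero,
      eq_comm] at this
  exact ⟨(AddMonoidHom.mk' (fun v => g (s v)) fun u v => by
    rw [← hg _ (hs u) _ (hs v)]
    exact key _ (hs _) _ (mul_mem (hs u) (hs v)) (by
      rw [h.add _ (hs u) _ (hs v), hs', hs', hs'])).toZModLinearMap p,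
    fun x hx => key _ (hs _) _ hx (hs' _)⟩

/-- The image of a subgroup. -/
def im (D : Subgroup G) : Submodule (ZMod p) V := AddSubgroup.toZModSubmodule p
  { carrier := {v | ∃ x ∈ Q, x ∈ D ∧ π x = v}
    zero_mem' := ⟨1, one_mem _, one_mem _, h.one⟩
    add_mem' := by
      rintro _ _ ⟨x, hx, hx', rfl⟩ ⟨y, hy, hy', rfl⟩
      exact ⟨_, mul_mem hx hy, mul_mem hx' hy', h.add x hx y hy⟩
    neg_mem' := by
      rintro _ ⟨x, hx, hx', rfl⟩
      exact ⟨_, inv_mem hx, inv_mem hx', h.inv hx⟩ }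

theorem mem_im {D : Subgroup G} {v : V} : v ∈ h.im (p := p) D ↔ ∃ x ∈ Q, x ∈ D ∧ π x = v :=
  Iff.rfl

theorem mem_im_of {D : Subgroup G} {x : G} (hx : x ∈ Q) (hD : x ∈ D) : π x ∈ h.im (p := p) D :=
  ⟨x, hx, hD, rfl⟩

theorem mem_of_mem_im {D : Subgroup G} (hZ : Z ≤ D) {x : G} (hx : x ∈ Q)
    (hD : π x ∈ h.im (p := p) D) : x ∈ D := by
  obtain ⟨y, hy, hyD, e⟩ := hD
  simpa using mul_mem hyD (hZ ((h.eq_iff hy hx).1 e))

/-- The preimage of a subspace. -/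
def pre (W : Submodule (ZMod p) V) : Subgroup G where
  carrier := {x | x ∈ Q ∧ π x ∈ W}
  one_mem' := ⟨one_mem _, h.one ▸ W.zero_mem⟩
  mul_mem' {a b} ha hb := ⟨mul_mem ha.1 hb.1, h.add a ha.1 b hb.1 ▸ W.add_mem ha.2 hb.2⟩
  inv_mem' {a} ha := ⟨inv_mem ha.1, h.inv ha.1 ▸ W.neg_mem ha.2⟩

theorem mem_pre {W : Submodule (ZMod p) V} {x : G} : x ∈ h.pre W ↔ x ∈ Q ∧ π x ∈ W := Iff.rfl

theorem card_eq [Finite V] {D : Subgroup G} (hZ : Z ≤ D) (hD : D ≤ Q) :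
    Nat.card D = Nat.card Z * p ^ finrank (ZMod p) (h.im (p := p) D) := by
  let f : D →* Multiplicative (h.im (p := p) D) := MonoidHom.mk'
    (fun x => Multiplicative.ofAdd ⟨π x, h.mem_im_of (hD x.2) x.2⟩) fun x y =>
      congrArg Multiplicative.ofAdd (Subtype.ext (h.add _ (hD x.2) _ (hD y.2)))
  have hf : Function.Surjective f := fun v => by
    obtain ⟨x, hx, hxD, e⟩ := v.toAdd.2
    exact ⟨⟨x, hxD⟩, congrArg Multiplicative.ofAdd (Subtype.ext e)⟩
  have hk : f.ker = Z.subgroupOf D := by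
    ext x
    exact (Subtype.ext_iff (a1 := (f x).toAdd) (a2 := 0)).trans (h.ker _ (hD x.2))
  rw [← f.ker.card_mul_index, index_ker, MonoidHom.range_eq_top.2 hf, card_top, hk,
    Fit.card_subgroupOf_of_le hZ]
  congr 1
  rw [Nat.card_congr Multiplicative.toAdd, natCard_eq_pow_finrank (K := ZMod p), Nat.card_zmod]

theorem im_top : h.im (p := p) Q = ⊤ := eq_top_iff.2 fun v _ => by
  obtain ⟨x, hx, e⟩ := h.surj v
  exact ⟨x, hx, hx, e⟩

end Lq

end Lq

variable {V : Type*} [AddCommGroup V] [Module (ZMod p) V]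

/-- `Q` is an extraspecial subgroup of index `p` in `S`, with `Z(S) = Z(Q) = ⟨z⟩`, and `(V, B)` is
its symplectic space. -/
structure Xs (p : ℕ) [Fact p.Prime] {V : Type*} [AddCommGroup V] [Module (ZMod p) V]
    (S Q : Subgroup G) (z : G) (π : G → V) (B : LinearMap.BilinForm (ZMod p) V) : Prop where
  pg : IsPGroup p S
  odd : p ≠ 2
  le : Q ≤ S
  idx : Q.relIndex S = p
  pow : z ^ p = 1
  ne : z ≠ 1
  mem : z ∈ Q
  cen : ∀ x ∈ S, Commute z x
  cenS : ∀ x ∈ S, (∀ y ∈ Q, Commute x y) → x ∈ zpowers z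
  powm : ∀ x ∈ Q, x ^ p ∈ zpowers z
  lq : Lq Q (zpowers z) π
  comm : ∀ x ∈ Q, ∀ y ∈ Q, ⁅x, y⁆ = zp z (B (π x) (π y))

omit hp in
theorem comm_mul_left' {x y w : G} (h : Commute ⁅y, w⁆ x) : ⁅x * y, w⁆ = ⁅y, w⁆ * ⁅x, w⁆ := by
  have : ⁅x * y, w⁆ = x * ⁅y, w⁆ * x⁻¹ * ⁅x, w⁆ := by simp only [commutatorElement_def]; group
  rw [this, ← h.eq, mul_inv_cancel_right]

omit hp in
theorem comm_mul_right' {x y w : G} (h : Commute ⁅w, y⁆ x) : ⁅w, x * y⁆ = ⁅w, x⁆ * ⁅w, y⁆ := by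
  have : ⁅w, x * y⁆ = ⁅w, x⁆ * (x * ⁅w, y⁆ * x⁻¹) := by simp only [commutatorElement_def]; group
  rw [this, ← h.eq, mul_inv_cancel_right]

theorem exists_xs {S Q : Subgroup G} [Finite S] (hS : IsPGroup p S) (h2 : p ≠ 2) (hQS : Q ≤ S)
    (hQ : IsExtraspecial p Q) (hi : Q.relIndex S = p)
    (hc : FusionSystem.centralizerIn S S = FusionSystem.centralizerIn Q Q) :
    ∃ (z : G) (V : Type u) (_ : AddCommGroup V) (_ : Module (ZMod p) V) (_ : Finite V) (π : G → V)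
      (B : LinearMap.BilinForm (ZMod p) V), Xs p S Q z π B := by
  haveI := finite_of_le hQS
  obtain ⟨z, hz, hz1, h₁, h₂, h₃⟩ := exists_gen_of_extraspecial hQ
  have hzc := mem_cen.1 ((hc.trans h₁).ge (mem_zpowers z))
  have hzQ := (h₁.ge (mem_zpowers z)).1
  have hcomm : ∀ x ∈ Q, ∀ y ∈ Q, ⁅x, y⁆ ∈ zpowers z := fun x hx y hy =>
    h₃.le (commutator_mem_commutator hx hy)
  have hpow : ∀ x ∈ Q, x ^ p ∈ zpowers z := fun x hx => h₂.le (pow_mem_phi hx)
  have hZ : ∀ x ∈ zpowers z, ∀ y ∈ Q, Commute x y := fun x ⟨k, hk⟩ y hy =>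
    hk ▸ (hzc.2 y (hQS hy)).zpow_left k
  obtain ⟨V, _, _, _, π, hπ⟩ := exists_lq hcomm hpow
  have h₄ : ∀ x ∈ Q, ∃ L : V →ₗ[ZMod p] ZMod p, ∀ y ∈ Q, L (π y) = lg p z ⁅x, y⁆ := fun x hx =>
    hπ.exists_lin (fun a ha b hb => by
      rw [comm_mul_right' (hZ _ (hcomm x hx b hb) a ha),
        lg_mul hz hz1 (hcomm x hx a ha) (hcomm x hx b hb)])
      fun a ha haZ => by rw [(hZ a haZ x hx).symm.commutator_eq, lg_one hz hz1]
  choose! L hL using h₄
  obtain ⟨B, hB⟩ := hπ.exists_lin (p := p) (g := L) (fun a ha b hb => LinearMap.ext fun v => by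
      obtain ⟨y, hy, rfl⟩ := hπ.surj v
      rw [LinearMap.add_apply, hL _ (mul_mem ha hb) y hy, hL a ha y hy, hL b hb y hy,
        comm_mul_left' (hZ _ (hcomm b hb y hy) a ha),
        lg_mul hz hz1 (hcomm b hb y hy) (hcomm a ha y hy), add_comm])
    fun a ha haZ => LinearMap.ext fun v => by
      obtain ⟨y, hy, rfl⟩ := hπ.surj v
      rw [hL a ha y hy, (hZ a haZ y hy).commutator_eq, lg_one hz hz1, LinearMap.zero_apply]
  refine ⟨z, V, inferInstance, inferInstance, inferInstance, π, B, hS, h2, hQS, hi, hz, hz1, hzQ,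
    hzc.2, fun x hx h => ?_, hpow, hπ, fun x hx y hy => by
      rw [hB x hx, hL x hx y hy, zp_lg hz (hcomm x hx y hy)]⟩
  by_cases hxQ : x ∈ Q
  · exact h₁.le (mem_cen.2 ⟨hxQ, h⟩)
  · exact (hc.trans h₁).le (mem_cen.2 ⟨hx, fun y hy => (commute_of_mem_zpowers_sup
      (Commute.refl x) (fun n hn => (h n hn).symm)
      ((sup_eq_of_relIndex_prime' hQS hi.dvd hx hxQ).ge hy)).symm⟩)

/-- `N + 1` is the action of `s` on `V`. -/
def IsN (Q : Subgroup G) (π : G → V) (s : G) (N : Module.End (ZMod p) V) : Prop :=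
  ∀ x ∈ Q, π (dl s x) = N (π x)

namespace Xs

variable {S Q : Subgroup G} [Finite S] [Finite V] {z : G} {π : G → V}
  {B : LinearMap.BilinForm (ZMod p) V} (h : Xs p S Q z π B)
include h

theorem norm : S ≤ normalizer (Q : Set G) := le_normalizer_of_relIndex_dvd h.pg h.le h.idx.dvd

theorem conj_mem {s x : G} (hs : s ∈ S) (hx : x ∈ Q) : s * x * s⁻¹ ∈ Q := (h.norm hs x).1 hx

theorem dl_mem {s x : G} (hs : s ∈ S) (hx : x ∈ Q) : dl s x ∈ Q :=
  mul_mem (inv_mem hx) (h.conj_mem hs hx)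

theorem dl_mem' {s x : G} (hs : s ∈ S) (hx : x ∈ S) : dl s x ∈ Q := by
  rw [dl_eq_comm]; exact comm_mem_of_relIndex_dvd h.pg h.le h.idx.dvd (inv_mem hx) hs

theorem Z_le : zpowers z ≤ Q := zpowers_le.2 h.mem

theorem cenZ {x y : G} (hx : x ∈ zpowers z) (hy : y ∈ S) : Commute x y := by
  obtain ⟨k, rfl⟩ := hx
  exact (h.cen y hy).zpow_left k

theorem sup_eq {s : G} (hs : s ∈ S) (hsQ : s ∉ Q) : zpowers s ⊔ Q = S :=
  sup_eq_of_relIndex_prime' h.le h.idx.dvd hs hsQ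

theorem pow_mem {s : G} (hs : s ∈ S) : s ^ p ∈ Q := pow_mem_of_relIndex_dvd h.pg h.le h.idx.dvd hs

theorem comm_mem {x y : G} (hx : x ∈ Q) (hy : y ∈ Q) : ⁅x, y⁆ ∈ zpowers z :=
  h.comm x hx y hy ▸ zp_mem_zpowers _ _

theorem πz : π z = 0 := (h.lq.ker z h.mem).2 (mem_zpowers z)

theorem commute_iff {x y : G} (hx : x ∈ Q) (hy : y ∈ Q) : Commute x y ↔ B (π x) (π y) = 0 := by
  rw [← commutatorElement_eq_one_iff_commute, h.comm x hx y hy, zp_eq_one h.pow h.ne]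

theorem mul_eq {x y : G} (hx : x ∈ Q) (hy : y ∈ Q) :
    x * y = zp z (B (π x) (π y)) * (y * x) := by
  rw [← h.comm x hx y hy, commutatorElement_def]; group

theorem conj_eq {x y : G} (hx : x ∈ Q) (hy : y ∈ Q) :
    y⁻¹ * x * y = x * zp z (B (π x) (π y)) := by
  rw [mul_assoc, h.mul_eq hx hy, ← mul_assoc, ← (h.cenZ (zp_mem_zpowers z _) (h.le (inv_mem hy))).eq,
    mul_assoc, inv_mul_cancel_left, (h.cenZ (zp_mem_zpowers z _) (h.le hx)).eq]

theorem alt (v : V) : B v v = 0 := by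
  obtain ⟨x, hx, rfl⟩ := h.lq.surj v
  exact (h.commute_iff hx hx).1 rfl

theorem skew (u v : V) : B v u = -B u v := (LinearMap.IsAlt.neg h.alt u v).symm

theorem refl : B.IsRefl := LinearMap.IsAlt.isRefl h.alt

theorem eq_zero {v : V} (hv : ∀ u, B v u = 0) : v = 0 := by
  obtain ⟨x, hx, rfl⟩ := h.lq.surj v
  exact (h.lq.ker x hx).2 (h.cenS x (h.le hx) fun y hy => (h.commute_iff hx hy).2 (hv _))

theorem nondeg : B.Nondegenerate :=
  ⟨fun v hv => h.eq_zero hv, fun v hv => h.eq_zero fun u => h.refl _ _ (hv u)⟩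

theorem card_Z : Nat.card (zpowers z) = p := card_zpowers_eq h.pow h.ne

theorem card_Q : Nat.card Q = p ^ (finrank (ZMod p) V + 1) := by
  rw [h.lq.card_eq (p := p) h.Z_le le_rfl, h.lq.im_top (p := p), finrank_top, h.card_Z, pow_succ']

theorem card_S : Nat.card S = p ^ (finrank (ZMod p) V + 2) := by
  rw [← Fit.card_mul_relIndex h.le, h.card_Q, h.idx, ← pow_succ]

theorem two_mul_le {W : Submodule (ZMod p) V} (hW : ∀ u ∈ W, ∀ v ∈ W, B u v = 0) :
    2 * finrank (ZMod p) W ≤ finrank (ZMod p) V := by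
  have h₁ := Submodule.finrank_mono (show W ≤ B.orthogonal W from fun v hv u hu => hW u hu v hv)
  rw [LinearMap.BilinForm.finrank_orthogonal h.nondeg] at h₁
  have := W.finrank_le
  omega

theorem exists_map {f : G → G} (hf : HomOn Q f) (hQ : ∀ x ∈ Q, f x ∈ Q) {c : ZMod p}
    (hz : f z = zp z c) : ∃ A : Module.End (ZMod p) V, (∀ x ∈ Q, A (π x) = π (f x)) ∧
      ∀ u v, B (A u) (A v) = c * B u v := by
  obtain ⟨A, hA⟩ := h.lq.exists_lin (p := p) (g := fun x => π (f x)) (fun x hx y hy => by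
    rw [hf x hx y hy, h.lq.add _ (hQ x hx) _ (hQ y hy)]) fun x hx ⟨k, hk⟩ => by
      rw [← hk, hf.map_zpow h.mem, hz]
      exact (h.lq.ker _ (h.Z_le (zpow_mem (zp_mem_zpowers _ _) k))).2
        (zpow_mem (zp_mem_zpowers _ _) k)
  refine ⟨A, hA, fun u v => ?_⟩
  obtain ⟨x, hx, rfl⟩ := h.lq.surj u
  obtain ⟨y, hy, rfl⟩ := h.lq.surj v
  refine zp_inj h.pow h.ne ?_
  rw [hA x hx, hA y hy, ← h.comm _ (hQ x hx) _ (hQ y hy), ← hf.map_comm hx hy, h.comm x hx y hy,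
    homOn_zp hf h.mem, hz, zp_zp h.pow]

theorem exists_isN {s : G} (hs : s ∈ S) : ∃ N : Module.End (ZMod p) V, IsN Q π s N := by
  obtain ⟨A, hA, -⟩ := h.exists_map (Fus2.homOn_conj Q s) (fun x hx => h.conj_mem hs hx) (c := 1)
    (by rw [zp_one h.pow, conj_eq_iff_commute]; exact (h.cen s hs).symm)
  exact ⟨A - 1, fun x hx => by
    rw [dl, h.lq.add _ (inv_mem hx) _ (h.conj_mem hs hx), h.lq.inv hx, ← hA x hx]
    simp [sub_eq_neg_add]⟩

variable {s : G} {N : Module.End (ZMod p) V}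

theorem π_conj (hs : s ∈ S) (hN : IsN Q π s N) {x : G} (hx : x ∈ Q) :
    π (s * x * s⁻¹) = π x + N (π x) := by
  rw [← mul_dl, h.lq.add _ hx _ (h.dl_mem hs hx), hN x hx]

theorem inv_form (hs : s ∈ S) (hN : IsN Q π s N) (u v : V) :
    B (N u) v + B u (N v) + B (N u) (N v) = 0 := by
  obtain ⟨x, hx, rfl⟩ := h.lq.surj u
  obtain ⟨y, hy, rfl⟩ := h.lq.surj v
  have : B (π x + N (π x)) (π y + N (π y)) = B (π x) (π y) := zp_inj h.pow h.ne (by
    rw [← h.π_conj hs hN hx, ← h.π_conj hs hN hy, ← h.comm _ (h.conj_mem hs hx) _ (h.conj_mem hs hy),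
      ← h.comm x hx y hy, ← conjugate_commutatorElement, conj_eq_iff_commute]
    exact (h.cenZ (h.comm_mem hx hy) hs).symm)
  simp only [map_add, LinearMap.add_apply] at this
  linear_combination this

theorem orth_of_ker (hs : s ∈ S) (hN : IsN Q π s N) {v : V} (hv : N v = 0) (u : V) :
    B (N u) v = 0 := by simpa [hv] using h.inv_form hs hN u v

theorem N_pow (hs : s ∈ S) (hN : IsN Q π s N) : N ^ p = 0 := by
  have key : ∀ n : ℕ, ∀ x ∈ Q, π (s ^ n * x * (s ^ n)⁻¹) = ((N + 1) ^ n) (π x) := fun n x hx => by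
    induction n with
    | zero => simp
    | succ n ih =>
      rw [show s ^ (n + 1) * x * (s ^ (n + 1))⁻¹ = s * (s ^ n * x * (s ^ n)⁻¹) * s⁻¹ by group,
        h.π_conj hs hN (h.conj_mem (S.pow_mem hs n) hx), ih, pow_succ', Module.End.mul_apply]
      simp [add_comm]
  have h₁ : (N + 1) ^ p = 1 := LinearMap.ext fun v => by
    obtain ⟨x, hx, rfl⟩ := h.lq.surj v
    rw [← key p x hx, h.lq.conj (h.pow_mem hs) hx, Module.End.one_apply]
  rcases subsingleton_or_nontrivial (Module.End (ZMod p) V) with h0 | h0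
  · exact Subsingleton.elim _ _
  haveI : CharP (Module.End (ZMod p) V) p :=
    charP_of_injective_algebraMap (algebraMap (ZMod p) _).injective p
  rwa [add_pow_char_of_commute p (Commute.one_right N), one_pow, add_eq_right] at h₁

theorem dl_mem_Z (hs : s ∈ S) (hN : IsN Q π s N) {x : G} (hx : x ∈ Q) :
    dl s x ∈ zpowers z ↔ N (π x) = 0 := by rw [← hN x hx, h.lq.ker _ (h.dl_mem hs hx)]

theorem N_eq_zero (hs : s ∈ S) (hN : IsN Q π s N) {x : G} (hx : x ∈ Q) (hc : Commute s x) :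
    N (π x) = 0 := by rw [← hN x hx, dl_eq_one.2 hc, h.lq.one]

theorem isN_mul (hs : s ∈ S) (hN : IsN Q π s N) {q : G} (hq : q ∈ Q) : IsN Q π (s * q) N :=
  fun x hx => by
  have e : dl (s * q) x = x⁻¹ * (s * (q * x * q⁻¹) * s⁻¹) := by simp only [dl]; group
  have hx' := h.conj_mem (h.le hq) hx
  rw [e, h.lq.add _ (inv_mem hx) _ (h.conj_mem hs hx'), h.π_conj hs hN hx', h.lq.conj hq hx,
    h.lq.inv hx, neg_add_cancel_left]

theorem dl_mul_right (hs : s ∈ S) {q x : G} (hq : q ∈ Q) (hx : x ∈ Q) :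
    dl (s * q) x = dl s x * zp z (B (π q) (π x)) := by
  have e : dl (s * q) x = x⁻¹ * (s * (⁅q, x⁆ * x) * s⁻¹) := by
    simp only [dl, commutatorElement_def]; group
  rw [e, h.comm q hq x hx, (h.cenZ (zp_mem_zpowers z _) (h.le hx)).eq, ← mul_assoc s, mul_assoc _ _ s⁻¹,
    (h.cenZ (zp_mem_zpowers z _) (inv_mem hs)).eq, dl]
  group

/-- The homomorphism `x ↦ dl s x` on the preimage of the kernel of `N`. -/
theorem dl_mul_of_ker (hs : s ∈ S) (hN : IsN Q π s N) {x y : G} (hx : x ∈ Q) (hy : y ∈ Q)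
    (h0 : N (π x) = 0) : dl s (x * y) = dl s x * dl s y := by
  rw [dl_mul, mul_assoc y⁻¹, (h.cenZ ((h.dl_mem_Z hs hN hx).2 h0) (h.le hy)).eq,
    inv_mul_cancel_left]

theorem N_ne_zero (hs : s ∈ S) (hsQ : s ∉ Q) (hN : IsN Q π s N) : N ≠ 0 := by
  rintro rfl
  have hZ : ∀ x ∈ Q, dl s x ∈ zpowers z := fun x hx => (h.dl_mem_Z hs hN hx).2 rfl
  obtain ⟨L, hL⟩ := h.lq.exists_lin (p := p) (g := fun x => lg p z (dl s x)) (fun x hx y hy => by
    rw [h.dl_mul_of_ker hs hN hx hy rfl, lg_mul h.pow h.ne (hZ x hx) (hZ y hy)])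
    fun x hx hxZ => by rw [dl_eq_one.2 (h.cenZ hxZ hs).symm, lg_one h.pow h.ne]
  obtain ⟨q, hq, e⟩ := h.lq.surj ((B.toDual h.nondeg).symm (-L))
  have := h.cenS _ (mul_mem hs (h.le hq)) fun y hy => dl_eq_one.1 (by
    rw [h.dl_mul_right hs hq hy, e, LinearMap.BilinForm.apply_toDual_symm_apply,
      LinearMap.neg_apply, hL y hy, zp_neg h.pow, zp_lg h.pow (hZ y hy), mul_inv_cancel])
  exact hsQ (by simpa using mul_mem (h.Z_le this) (inv_mem hq))

theorem orth_range (hs : s ∈ S) (hN : IsN Q π s N) :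
    B.orthogonal (LinearMap.range N) = LinearMap.ker N := by
  refine (Submodule.eq_of_le_of_finrank_le ?_ ?_).symm
  · rintro v hv _ ⟨u, rfl⟩
    exact h.orth_of_ker hs hN hv u
  · rw [LinearMap.BilinForm.finrank_orthogonal h.nondeg, ← N.finrank_range_add_finrank_ker]
    omega

theorem mem_range (hs : s ∈ S) (hN : IsN Q π s N) {v : V} (hv : ∀ u, N u = 0 → B u v = 0) :
    ∃ u, N u = v := by
  have : v ∈ B.orthogonal (B.orthogonal (LinearMap.range N)) := by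
    rw [h.orth_range hs hN]; exact hv
  rwa [LinearMap.BilinForm.orthogonal_orthogonal h.nondeg h.refl] at this

theorem mul_pow {x y : G} (hx : x ∈ Q) (hy : y ∈ Q) : (x * y) ^ p = x ^ p * y ^ p :=
  mul_pow_of_odd h.odd (c := ⁅y⁻¹, x⁻¹⁆) (by group)
    (h.cenZ (h.comm_mem (inv_mem hy) (inv_mem hx)) (h.le hx))
    (h.cenZ (h.comm_mem (inv_mem hy) (inv_mem hx)) (h.le hy))
    (pow_eq_one_of_mem_zpowers h.pow (h.comm_mem (inv_mem hy) (inv_mem hx)))

theorem exists_rho : ∃ ρ : V →ₗ[ZMod p] ZMod p, ∀ x ∈ Q, x ^ p = zp z (ρ (π x)) := by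
  obtain ⟨ρ, hρ⟩ := h.lq.exists_lin (p := p) (g := fun x => lg p z (x ^ p)) (fun x hx y hy => by
    rw [h.mul_pow hx hy, lg_mul h.pow h.ne (h.powm x hx) (h.powm y hy)])
    fun x hx hxZ => by rw [pow_eq_one_of_mem_zpowers h.pow hxZ, lg_one h.pow h.ne]
  exact ⟨ρ, fun x hx => by rw [hρ x hx, zp_lg h.pow (h.powm x hx)]⟩

theorem rho_map {ρ : V →ₗ[ZMod p] ZMod p} (hρ : ∀ x ∈ Q, x ^ p = zp z (ρ (π x))) {f : G → G}
    (hf : HomOn Q f) (hQ : ∀ x ∈ Q, f x ∈ Q) {c : ZMod p} (hz : f z = zp z c) {x : G}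
    (hx : x ∈ Q) : ρ (π (f x)) = c * ρ (π x) := zp_inj h.pow h.ne (by
  rw [← hρ _ (hQ x hx), ← hf.map_pow hx, hρ x hx, homOn_zp hf h.mem, hz, zp_zp h.pow])

theorem rho_N {ρ : V →ₗ[ZMod p] ZMod p} (hρ : ∀ x ∈ Q, x ^ p = zp z (ρ (π x))) (hs : s ∈ S)
    (hN : IsN Q π s N) (v : V) : ρ (N v) = 0 := by
  obtain ⟨x, hx, rfl⟩ := h.lq.surj v
  have := h.rho_map hρ (Fus2.homOn_conj Q s) (fun x hx => h.conj_mem hs hx) (c := 1)
    (by rw [zp_one h.pow, conj_eq_iff_commute]; exact (h.cen s hs).symm) hx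
  rwa [h.π_conj hs hN hx, map_add, one_mul, add_eq_left] at this

end Xs

end Cfsg.Agent.XE
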