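import Cfsg.Agent.Lib.XE.Setup

/-!
The case where a conjugate of the centre lies in the extraspecial subgroup.
-/

set_option autoImplicit false
set_option linter.style.haveILetI false
set_option linter.unusedVariables false
set_option linter.unusedSectionVars false

namespace Cfsg.Agent.XE

open Subgroup Cfsg.Agent.Fus Cfsg.Agent.TwoGrp Cfsg.Agent.Ess Module
open Cfsg.Agent.Fus2 (M afn img HomOn)
open FusionSystem (normalizerIn centralizerIn)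
open scoped commutatorElement

universe u

theorem two_le_finrank {K V : Type*} [Field K] [AddCommGroup V] [Module K V] [Finite V]
    {W : Submodule K V} {u v : V} (hu : u ∈ W) (hv : v ∈ W)
    (hli : ∀ a b : K, a • u + b • v = 0 → a = 0 ∧ b = 0) : 2 ≤ finrank K W := by
  simpa using (LinearIndependent.pair_iff (x := (⟨u, hu⟩ : W)) (y := ⟨v, hv⟩).2 fun a b e =>
    hli a b (congrArg Subtype.val e)).fintype_card_le_finrank

variable {Ω : Type u} [Group Ω] {p : ℕ} [hp : Fact p.Prime]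
  {V : Type*} [AddCommGroup V] [Module (ZMod p) V]
  {S Q E : Subgroup Ω} [Finite S] [Finite V] {z : Ω} {π : Ω → V}
  {B : LinearMap.BilinForm (ZMod p) V} {F : FusionSystem S}

namespace Xs

variable (h : Xs p S Q z π B)
include h

theorem exists_eq {b x : Ω} (hb : b ∈ S) (hbQ : b ∉ Q) (hx : x ∈ S) :
    ∃ k : ℤ, ∃ q ∈ Q, b ^ k * q = x :=
  (mem_zpowers_sup_iff (h.norm hb)).1 ((h.sup_eq hb hbQ).ge hx)

theorem card_le_inf {H : Subgroup Ω} (hH : H ≤ S) :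
    Nat.card H ≤ p * Nat.card (Q ⊓ H : Subgroup Ω) := card_le_mul_of_relIndex_le
  ((relIndex_le_of_le_right hH (h.idx.trans_ne hp.out.ne_zero)).trans h.idx.le)

theorem exp_of_rho {ρ : V →ₗ[ZMod p] ZMod p} (hρ : ∀ x ∈ Q, x ^ p = zp z (ρ (π x)))
    (h0 : ∀ v, ρ v = 0) : ∀ x ∈ Q, x ^ p = 1 := fun x hx => by rw [hρ x hx, h0, zp_zero]

/-- The identification in the case of a conjugate of the centre in `Q`. -/
theorem csl_or_cg2 (hd : finrank (ZMod p) V = 4) (hexp : ∀ x ∈ Q, x ^ p = 1) {b c y w : Ω}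
    (hb : b ∈ S) (hbQ : b ∉ Q) (hc : c ∈ Q) (hy : y ∈ Q) (hbp : ∀ k : ZMod p, (b * zp c k) ^ p = 1)
    {N : Module.End (ZMod p) V} (hN : IsN Q π b N) (hw : Commute b (dl b c))
    (a₁ : B (π y) (N (π c)) ≠ 0) (a₂ : B (π c) (N (π c)) = 0)
    (hs : ∀ v, ∃ a b d e : ZMod p, v = a • π y + b • N (π y) + d • π c + e • N (π c)) :
    CSL p S ∨ CG2 p S := by
  have hwQ := h.dl_mem hb hc
  have haQ := h.dl_mem hb hy
  have n₀ : N (N (π c)) = 0 := hN c hc ▸ h.N_eq_zero hb hN hwQ hw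
  have a₃ := h.orth_of_ker hb hN n₀
  have a₄ : B (N (π y)) (π c) = -B (π y) (N (π c)) := by
    linear_combination h.inv_form hb hN (π y) (π c) - a₃ (π y)
  obtain ⟨x₁, x₂, s, t, e⟩ := hs (N (N (π y)))
  have e₁ := a₃ (N (π y))
  have e₂ : B (N (N (π y))) (π c) = 0 := by
    linear_combination h.inv_form hb hN (N (π y)) (π c) - a₃ (π y) - a₃ (N (π y))
  rw [e] at e₁ e₂
  simp only [map_add, map_smul, LinearMap.add_apply, LinearMap.smul_apply, smul_eq_mul, a₃, a₂,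
    h.alt, a₄, h.refl _ _ a₂] at e₁ e₂
  obtain rfl : x₁ = 0 := mul_right_cancel₀ a₁ (by linear_combination e₁)
  obtain rfl : x₂ = 0 := mul_right_cancel₀ a₁ (by linear_combination -e₂)
  simp only [zero_smul, zero_add] at e
  by_cases s0 : s = 0
  · have e₃ := h.inv_form hb hN (π y) (N (π y))
    rw [e, s0] at e₃
    simp only [map_smul, smul_eq_mul, a₃, h.alt, zero_smul, zero_add] at e₃
    obtain rfl : t = 0 := mul_right_cancel₀ a₁ (by linear_combination e₃)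
    have hZ := (h.dl_mem_Z hb hN haQ).2 (by rw [hN y hy, e, s0]; simp)
    set k := -lg p z (dl b (dl b y)) / B (π y) (N (π c)) with hk
    have hcQ := zp_mem hc k
    have hb' := mul_mem hb (h.le hcQ)
    have hN' := h.isN_mul hb hN hcQ
    refine Or.inl (h.csl_of hd hexp hb' (fun e => hbQ (by simpa using mul_mem e (inv_mem hcQ)))
      (hbp k) hy hN' hc (h.commute_of_eq hb' haQ (h.dl_mem hb' hy) (by rw [hN y hy, hN' y hy])
        (dl_eq_one.1 ?_)) ?_ a₁ a₂)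
    · rw [h.dl_mul_right hb hcQ haQ, h.lq.zp hc, hN y hy, ← zp_lg h.pow hZ, ← zp_add h.pow,
        zp_eq_one h.pow h.ne, map_smul, LinearMap.smul_apply, h.skew, a₄, hk, smul_eq_mul]
      field_simp; ring
    · rw [h.dl_mul_right hb hcQ hc, h.lq.zp hc, map_smul, LinearMap.smul_apply, h.alt, smul_zero,
        zp_zero, mul_one]
      exact hw.mul_left (((h.commute_iff hc hwQ).2 (by rw [hN c hc, a₂])).zpow_left _)
  · have e₃ : N (N (N (π y))) = s • N (π c) := by simp [e, n₀]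
    have hcQ := h.dl_mem hb haQ
    exact Or.inr (h.cg2_of hd hexp hb hbQ (by simpa [zp_zero] using hbp 0) hy hN
      (e₃ ▸ smul_ne_zero s0 fun e => a₁ (by simp [e])) (h.commute_of_eq hb (zp_mem hwQ s)
        (h.dl_mem hb hcQ) (by rw [h.lq.zp hwQ, hN c hc, hN _ hcQ, hN _ haQ, hN y hy, e₃])
        (hw.zpow_right _)))

end Xs

namespace Su

variable (h : Su p F Q E z π B) {θ : MulAut E} (hθ : θ ∈ F.autGroup E)
  (hw : afn θ z ∉ zpowers z) (hwQ : afn θ z ∈ Q)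
include h hθ hw hwQ

theorem a_mem {x : Ω} (hx : x ∈ Q) : x ∈ E ↔ B (π x) (π (afn θ z)) = 0 := by
  rw [← h.commute_iff hx hwQ]
  exact ⟨h.commute_afn θ, h.semi θ hθ hw x (h.le hx)⟩

theorem a_inf : Q ⊓ E = h.lq.pre (LinearMap.ker (B.flip (π (afn θ z)))) :=
  Subgroup.ext fun x => and_congr_right fun hx => h.a_mem hθ hw hwQ hx

theorem a_rank : finrank (ZMod p) (LinearMap.ker (B.flip (π (afn θ z)))) + 1 =
    finrank (ZMod p) V := Module.Dual.finrank_ker_add_one_of_ne_zero fun e =>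
  hw ((h.lq.ker _ hwQ).1 (h.eq_zero fun u => h.refl _ _ (LinearMap.congr_fun e u)))

omit hθ hw hwQ in
theorem a_comm {x y : Ω} (hx : x ∈ img (Q ⊓ E) (afn θ)) (hy : y ∈ img (Q ⊓ E) (afn θ)) :
    ⁅x, y⁆ ∈ zpowers (afn θ z) ∧ x ^ p ∈ zpowers (afn θ z) := by
  have hf := (Fus2.homOn_afn θ).mono (inf_le_right (a := Q))
  obtain ⟨x, hx', rfl⟩ := hf.mem_img.1 hx
  obtain ⟨y, hy', rfl⟩ := hf.mem_img.1 hy
  rw [← hf.map_comm hx' hy', ← hf.map_pow hx']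
  exact ⟨h.afn_Z (h.comm_mem hx'.1 hy'.1), h.afn_Z (h.powm x hx'.1)⟩

theorem a_struct : finrank (ZMod p) V = 4 ∧ afn θ⁻¹ z ∈ Q ∧ ∃ b ∈ img (Q ⊓ E) (afn θ), b ∉ Q ∧
    ∃ c ∈ Q ⊓ img (Q ⊓ E) (afn θ), ¬ Commute b c := by
  have hf := (M_afn h.leS hθ).mono (inf_le_right (a := Q))
  have hA : ∀ x ∈ Q ⊓ img (Q ⊓ E) (afn θ), ∀ y ∈ Q ⊓ img (Q ⊓ E) (afn θ), Commute x y :=
    fun x hx y hy => commutatorElement_eq_one_iff_commute.1
      (h.eq_one hw (h.comm_mem hx.1 hy.1) (h.a_comm hx.2 hy.2).1)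
  set W := h.lq.im (p := p) (Q ⊓ img (Q ⊓ E) (afn θ)) with hW
  have h₁ : 2 * finrank (ZMod p) W ≤ _ := h.two_mul_le (by
    rintro _ ⟨x, hx, hx', rfl⟩ _ ⟨y, hy, hy', rfl⟩
    exact (h.commute_iff hx hy).1 (hA x hx' y hy'))
  have hle : Q ⊓ img (Q ⊓ E) (afn θ) ≤ h.lq.pre W := fun x hx => ⟨hx.1, h.lq.mem_im_of hx.1 hx⟩
  haveI := finite_of_le (show h.lq.pre W ≤ S from fun x hx => h.le hx.1)
  have h₂ : Nat.card (img (Q ⊓ E) (afn θ)) = p ^ finrank (ZMod p) V := by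
    rw [hf.card_img, h.a_inf hθ hw hwQ, h.card_pre, h.a_rank hθ hw hwQ]
  have h₃ := h.card_le_inf hf.img_le
  have h₄ := card_le_of_le hle
  have h₅ := h₃.trans (Nat.mul_le_mul_left p h₄)
  rw [h₂, h.card_pre, ← pow_succ', Nat.pow_le_pow_iff_right hp.out.one_lt] at h₅
  have h4 := h.four
  have hd : finrank (ZMod p) V = 4 := by omega
  have hW2 : finrank (ZMod p) W = 2 := by omega
  have h₆ := Fus2.eq_of_le_of_card_le hle (Nat.le_of_mul_le_mul_left (by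
    rwa [h.card_pre, hW2, ← pow_succ', show 2 + 1 + 1 = 4 from rfl, ← hd, ← h₂]) hp.out.pos)
  obtain ⟨x, hx, ex⟩ := hf.mem_img.1 (h₆.ge (h.Z_le_pre W (mem_zpowers z))).2
  obtain ⟨b, hb, hbQ⟩ : ∃ b ∈ img (Q ⊓ E) (afn θ), b ∉ Q := SetLike.not_le_iff_exists.1 fun e => by
    rw [inf_eq_right.2 e, h₂, h.card_pre, hW2, hd, Nat.pow_le_pow_iff_right hp.out.one_lt] at h₄
    omega
  refine ⟨hd, by rw [← ex, Fus2.afn_inv_afn]; exact hx.1, b, hb, hbQ, ?_⟩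
  by_contra! hc
  have key : ∀ x ∈ img (Q ⊓ E) (afn θ), ∀ y, Commute b y →
      (∀ c ∈ Q ⊓ img (Q ⊓ E) (afn θ), Commute c y) → Commute x y := fun x hx y e₁ e₂ => by
    obtain ⟨k, q, hq, rfl⟩ := h.exists_eq (hf.img_le hb) hbQ (hf.img_le hx)
    exact (e₁.zpow_left k).mul_left (e₂ q ⟨hq, by simpa using mul_mem (inv_mem (zpow_mem hb k)) hx⟩)
  have := h.two_mul_le (W := LinearMap.ker (B.flip (π (afn θ z)))) fun u hu v hv => by
    obtain ⟨x, hx, rfl⟩ := h.lq.surj u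
    obtain ⟨y, hy, rfl⟩ := h.lq.surj v
    have hxE := (h.a_mem hθ hw hwQ hx).2 hu
    have hyE := (h.a_mem hθ hw hwQ hy).2 hv
    have hx' := Fus2.mem_img_of_mem (P := Q ⊓ E) (afn θ) ⟨hx, hxE⟩
    have hy' := Fus2.mem_img_of_mem (P := Q ⊓ E) (afn θ) ⟨hy, hyE⟩
    simpa [← h.commute_iff hx hy] using afn_commute θ⁻¹ (Fus2.afn_mem θ hxE) (Fus2.afn_mem θ hyE)
      (key _ hx' _ (key _ hy' b (Commute.refl b) fun c hc' => (hc c hc').symm).symm fun c hc' =>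
        (key _ hy' c (hc c hc') fun a ha => hA a ha c hc').symm)
  have := h.a_rank hθ hw hwQ
  omega

theorem a_norm : S ≤ normalizer (E : Set Ω) := by
  haveI := finite_of_le h.leS
  refine le_normalizer_of_relIndex_dvd h.pg h.leS (relIndex_dvd_of_le' h.pg
    (relIndex_le_of_card_le h.leS ?_))
  have := mul_card_le_of_lt (isPGroup_of_le h.pg h.leS)
    (lt_of_le_not_ge (inf_le_right (a := Q)) fun e => h.nle (le_inf_iff.1 e).1)
  rw [h.a_inf hθ hw hwQ, h.card_pre, h.a_rank hθ hw hwQ] at this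
  rw [h.card_S, pow_succ', pow_succ']
  exact Nat.mul_le_mul_left p this

theorem a_neg (hz : afn θ⁻¹ z ∈ Q) {y : Ω} (hy : y ∈ Q) (hyE : y ∉ E) :
    ∃ τ ∈ F.autGroup E, afn τ z = z⁻¹ ∧ afn τ (afn θ z) = (afn θ z)⁻¹ := by
  have hwE := Fus2.afn_mem θ h.zE
  have key : ∀ α ∈ F.autGroup E, afn α z ∉ zpowers z → afn α z ∈ Q → ∀ u ∈ zpowers z,
      ∃ t ∈ F.autGroup E, afn t z = z ∧ afn t (afn α z) = afn α z * u := fun α hα e₁ e₂ u hu => by
    obtain ⟨n, hn⟩ := h.exists_conj_eq (h.le hy) (dl_eq_comm y _ ▸ h.comm_mem (inv_mem e₂) hy)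
      (fun e => hyE (h.semi α hα e₁ y (h.le hy) e)) hu
    have hyn := S.pow_mem (h.le hy) n
    exact ⟨_, conjAut_mem_autGroup h.leS hyn (h.a_norm hθ hw hwQ hyn), by
      rw [Fus2.afn_conjAut _ h.zE, h.conj_Z hyn (mem_zpowers z)], by
      rw [Fus2.afn_conjAut _ (Fus2.afn_mem α h.zE), hn]⟩
  obtain ⟨t, ht, t₁, t₂⟩ := key θ hθ hw hwQ z (mem_zpowers z)
  obtain ⟨s, hs, s₁, s₂⟩ := key θ⁻¹ (inv_mem hθ) (h.inv_not_mem hw) hz z⁻¹ (inv_mem (mem_zpowers z))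
  have hc := h.commute_afn θ h.zE
  have n₁ : afn (t * (θ * s * θ⁻¹) * t) z = (afn θ z)⁻¹ := by
    simp only [Fus2.afn_mul]
    rw [t₁, s₂, afn_mul' θ (Fus2.afn_mem _ h.zE) (inv_mem h.zE), Fus2.afn_afn_inv, afn_inv' θ h.zE,
      afn_mul' t h.zE (inv_mem hwE), afn_inv' t hwE, t₁, t₂, ← hc.eq, mul_inv_rev, ← mul_assoc,
      hc.inv_right.eq, mul_inv_cancel_right]
  have n₂ : afn (t * (θ * s * θ⁻¹) * t) (afn θ z) = z := by
    simp only [Fus2.afn_mul]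
    rw [t₂, afn_mul' θ⁻¹ hwE h.zE, Fus2.afn_inv_afn, afn_mul' s h.zE (Fus2.afn_mem _ h.zE), s₁, s₂,
      (h.commute_afn θ⁻¹ h.zE).mul_inv_cancel_assoc, Fus2.afn_afn_inv, t₁]
  have hn := mul_mem (mul_mem ht (mul_mem (mul_mem hθ hs) (inv_mem hθ))) ht
  exact ⟨_, mul_mem hn hn, by rw [Fus2.afn_mul, n₁, afn_inv' _ hwE, n₂],
    by rw [Fus2.afn_mul, n₂, n₁]⟩

theorem caseA : CSL p S ∨ CG2 p S := by
  obtain ⟨hd, hz, b, hb, hbQ, c, hc, hbc⟩ := h.a_struct hθ hw hwQ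
  have hf := (M_afn h.leS hθ).mono (inf_le_right (a := Q))
  have hE₁ : img (Q ⊓ E) (afn θ) ≤ E := Fus2.img_le_iff.2 fun x hx => Fus2.afn_mem θ hx.2
  have hbS := h.leS (hE₁ hb)
  obtain ⟨N, hN⟩ := h.exists_isN hbS
  have hbw := h.commute_afn θ (hE₁ hb)
  obtain ⟨k, hk⟩ := (mem_zpowers_iff_zp (h.afn_pow θ)).1
    (dl_eq_comm b c ▸ (h.a_comm (inv_mem hc.2) hb).1)
  have k0 : k ≠ 0 := fun e => hbc (dl_eq_one.1 (by rw [hk, e, zp_zero]))
  have ec : N (π c) = k • π (afn θ z) := by rw [← hN c hc.1, hk, h.lq.zp hwQ]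
  obtain ⟨y, hy, hyE⟩ : ∃ y ∈ Q, y ∉ E := SetLike.not_le_iff_exists.1 fun e =>
    hw (h.cenS _ (h.le hwQ) fun y hy => (h.commute_afn θ (e hy)).symm)
  have b₁ := mt (h.a_mem hθ hw hwQ hy).2 hyE
  have b₂ := (h.a_mem hθ hw hwQ hc.1).1 (hE₁ hc.2)
  have b₃ := h.orth_of_ker hbS hN (h.N_eq_zero hbS hN hwQ hbw)
  have a₁ : B (π y) (N (π c)) ≠ 0 := by simpa [ec, k0] using b₁
  have a₂ : B (π c) (N (π c)) = 0 := by simp [ec, b₂]
  have a₃ : ∀ u, B (N u) (N (π c)) = 0 := fun u => by simp [ec, b₃]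
  have a₄ : B (N (π y)) (π c) = -B (π y) (N (π c)) := by
    linear_combination h.inv_form hbS hN (π y) (π c) - a₃ (π y)
  have hli : ∀ x₁ x₂ x₃ x₄ : ZMod p, x₁ • π y + x₂ • N (π y) + x₃ • π c + x₄ • N (π c) = 0 →
      x₁ = 0 ∧ x₂ = 0 ∧ x₃ = 0 ∧ x₄ = 0 := fun x₁ x₂ x₃ x₄ e => by
    have e₁ := congrArg (fun v => B v (N (π c))) e
    have e₂ := congrArg (fun v => B v (π c)) e
    have e₃ := congrArg (B (N (π y))) e
    have e₄ := congrArg (B (π y)) e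
    simp only [map_add, map_smul, LinearMap.add_apply, LinearMap.smul_apply, smul_eq_mul, a₃, a₂,
      h.alt, a₄, h.refl _ _ a₂, map_zero, LinearMap.zero_apply] at e₁ e₂ e₃ e₄
    obtain rfl : x₁ = 0 := mul_right_cancel₀ a₁ (by linear_combination e₁)
    obtain rfl : x₂ = 0 := mul_right_cancel₀ a₁ (by linear_combination -e₂)
    obtain rfl : x₃ = 0 := mul_right_cancel₀ a₁ (by linear_combination -e₃)
    exact ⟨rfl, rfl, rfl, mul_right_cancel₀ a₁ (by linear_combination e₄)⟩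
  have hs := exists_coords hd hli
  obtain ⟨τ, hτ, τ₁, τ₂⟩ := h.a_neg hθ hw hwQ hz hy hyE
  have hW : zpowers z ⊔ zpowers (afn θ z) ≤ Q ⊓ E :=
    sup_le (le_inf h.Z_le h.ZE) (zpowers_le.2 ⟨hwQ, Fus2.afn_mem θ h.zE⟩)
  obtain ⟨f, hfS, f₁, f₂⟩ := h.exists_ext (h.a_norm hθ hw hwQ) le_sup_left (hW.trans inf_le_right)
    (fun s hs x hx => h.dl_mem_Z_of hbS hbQ (hW hx).1 (by
      rw [dl_eq_one.2 (commute_of_sup (commute_of_zpowers (h.cen b hbS))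
        (commute_of_zpowers hbw.symm) x hx).symm]
      exact one_mem _) hs) hτ
    (((Fus2.homOn_afn τ).mono (hW.trans inf_le_right)).mem_of_sup
      (fun x hx => homOn_mem_zpowers (Fus2.homOn_afn τ) h.zE hx
        (τ₁ ▸ inv_mem (mem_sup_left (mem_zpowers z))))
      fun x hx => homOn_mem_zpowers (Fus2.homOn_afn τ) (Fus2.afn_mem θ h.zE) hx
        (τ₂ ▸ inv_mem (mem_sup_right (mem_zpowers _)))) (τ₁ ▸ inv_mem (mem_zpowers z))
  have hfQ := h.inv_Q hfS hbS hN (two_le_finrank ⟨π y, rfl⟩ ⟨π c, rfl⟩ fun a b e => by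
    obtain ⟨-, h₁, -, h₂⟩ := hli 0 a 0 b (by simpa using e)
    exact ⟨h₁, h₂⟩)
  have fz : f z = zp z (-1 : ZMod p) := by rw [f₁, τ₁, zp_neg h.pow, zp_one h.pow]
  obtain ⟨A, hA, hB⟩ := h.exists_map (hfS.homOn.mono h.le) hfQ fz
  have eA : A (π (afn θ z)) = -π (afn θ z) := by
    rw [hA _ hwQ, ← h.lq.inv hwQ, ← τ₂, eq_comm, h.lq.eq_iff (τ₂ ▸ inv_mem hwQ) (hfQ _ hwQ)]
    exact f₂ _ (mem_sup_right (mem_zpowers _))
  obtain ⟨ρ, hρ⟩ := h.exists_rho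
  have ρ₁ := h.rho_N hρ hbS hN
  have ρ₂ : ρ (π c) = 0 := (zp_eq_one h.pow h.ne).1 (hρ c hc.1 ▸
    h.eq_one hw (h.powm c hc.1) (h.a_comm hc.2 hc.2).2)
  have ρ₃ : ρ (π y) = 0 := by
    have e₁ := h.rho_map hρ (hfS.homOn.mono h.le) hfQ fz hy
    have e₂ := hB (π y) (π (afn θ z))
    obtain ⟨x₁, x₂, x₃, x₄, e⟩ := hs (A (π y))
    rw [← hA y hy, e] at e₁
    rw [eA, e] at e₂
    simp only [map_add, map_smul, map_neg, LinearMap.add_apply, LinearMap.smul_apply, smul_eq_mul,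
      b₂, b₃, ρ₁, ρ₂] at e₁ e₂
    obtain rfl : x₁ = 1 := mul_right_cancel₀ b₁ (by linear_combination -e₂)
    exact mul_left_cancel₀ h.two_ne (by linear_combination e₁)
  have hexp := h.exp_of_rho hρ fun v => by
    obtain ⟨x₁, x₂, x₃, x₄, rfl⟩ := hs v
    simp [ρ₁, ρ₂, ρ₃]
  refine h.csl_or_cg2 (w := z) hd hexp hbS hbQ hc.1 hy (fun j => ?_) hN
    (hk ▸ hbw.zpow_right _) a₁ a₂ hs
  obtain ⟨x, hx, ex⟩ := hf.mem_img.1 (mul_mem hb (zp_mem hc.2 j))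
  exact ex ▸ afn_pow_eq_one θ hx.2 (hexp x hx.1)

end Su

end Cfsg.Agent.XE
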