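import Cfsg.Agent.Lib.Ess.Five2

/-!
Groups of maximal class with an extraspecial two-step centralizer and a torus.
-/

set_option autoImplicit false
set_option linter.style.haveILetI false
set_option linter.unusedVariables false
set_option linter.unusedSectionVars false

namespace Cfsg.Agent.XE

open Subgroup Cfsg.Agent.Fus Cfsg.Agent.TwoGrp Cfsg.Agent.Ess
open scoped commutatorElement

universe u

variable {G : Type u} [Group G] [Finite G] {p n : ℕ} [hp : Fact p.Prime] {K : Subgroup G} {x z : G}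

omit [Finite G] in
theorem eq_on_top (hK : TwoStep p K) (hx : x ∉ K) {A : Type*} [Group A] {f g : G →* A}
    (h₁ : f x = g x) (h₂ : ∀ y ∈ K, f y = g y) (s : G) : f s = g s :=
  (show ⊤ ≤ f.eqLocus g from (hK.sup_eq hx).ge.trans (sup_le (zpowers_le.2 h₁) h₂)) trivial

theorem pos_of_le (h : MaxCl p n G) (hK : TwoStep p K) (hKK : ⁅K, K⁆ ≤ center G) :
    Pos K (n - 3) := fun i hi hi' => (commutator_mono le_rfl ((lcs_anti hi).trans hK.le)).trans
  (hKK.trans (h.center_eq.le.trans (lcs_anti (by omega))))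

theorem MaxCl.nilpotencyClass_eq [Group.IsNilpotent G] (h : MaxCl p n G) :
    Group.nilpotencyClass G = n - 1 := by
  have h₁ := Subgroup.lowerCentralSeries_eq_bot_iff_nilpotencyClass_le.1
    (h.eq_bot (j := n - 1) (by omega))
  have h₂ := mt Subgroup.lowerCentralSeries_eq_bot_iff_nilpotencyClass_le.2 h.ne
  have := h.le
  omega

theorem pearl_weights (hn : Nat.card G = p ^ n) (h6 : 6 ≤ n) (hK : TwoStep p K) (hxK : x ∉ K)
    (hx : Nat.card (centralizer {x}) ≤ p ^ 2) (hxp : x ^ p = 1) (hKK : ⁅K, K⁆ ≤ center G)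
    (hKp : ∀ y ∈ K, y ^ p ∈ center G) (hZ : ∀ g ∈ K, (∀ y ∈ K, Commute g y) → g ∈ center G)
    (hz : z ∈ center G) (hz1 : z ≠ 1) {σ : MulAut G} {l : ZMod p} (l0 : l ≠ 0)
    (hl : orderOf l = p - 1) (σz : σ z = zp z l) (σx : σ x = zp x l⁻¹) :
    n = p - 1 ∧ ∀ y : G, y ^ p = 1 := by
  have h3 : 3 ≤ n := by omega
  have h := maxCl_of_card_le hn h3 hx
  have hc := h.center_eq
  haveI := hK.normal
  have iK := hK.inv h (by omega) ⊤ σ trivial
  have iL := fun i => inv_char ⊤ (lcs G i) σ trivial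
  have ha : Eig σ ⊤ K (l⁻¹).val :=
    eig_zp le_top (by simp [hK.idx]) (fun _ _ => trivial) iK trivial hxK σx
  obtain ⟨b, hb⟩ := exists_eig' hK.le (hK.relIndex_dvd h 0) iK (iL 1)
  have hW : Eig σ (center G) ⊥ l.val := eig_zp bot_le (by simp [h.card_center])
    (inv_char ⊤ _ σ trivial) (inv_bot ⊤ σ trivial) hz hz1 σz
  have hE : ∀ j, 1 ≤ j → j ≤ n - 3 → Eig σ (lcs G j) (lcs G (j + 1)) (b * (l⁻¹).val ^ j) :=
    fun j h₁ h₂ => tsr_of_pos K h₁ ▸ hK.eig h (pos_of_le h hK hKK) ha hb h₂ (by omega)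
  have hE₃ := hE (n - 3) (by omega) le_rfl
  obtain ⟨g, hg, hg'⟩ := SetLike.exists_of_lt (lcs_lt h.isPGroup (h.ne_bot (j := n - 3) (by omega)))
  have e₃ : lcs G (n - 3 + 1) = center G := by rw [hc]; congr 1; omega
  have cZ : ∀ Y : Subgroup G, ⁅center G, Y⁆ ≤ ⊥ := fun Y => comm_le_bot_iff.2 fun a ha y _ =>
    (Subgroup.mem_center_iff.1 ha y).symm
  have pZ : ∀ w ∈ center G, w ^ p ∈ (⊥ : Subgroup G) := fun w hw => by
    rw [← h.card_center]; exact congrArg Subtype.val (pow_card_eq_one' (x := (⟨w, hw⟩ : center G)))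
  have w₁ := eig_pair_eq hE₃ (Y := zpowers x) (Y' := ⊥) (b := (l⁻¹).val) (by
      rintro _ ⟨k, rfl⟩
      rw [mem_bot, inv_mul_eq_one, map_zpow, σx, zp_val, ← zpow_natCast, ← zpow_natCast, ← zpow_mul,
        ← zpow_mul, mul_comm]) hW hg (mem_zpowers x) (σx ▸ zp_mem_zpowers _ _) (e₃ ▸ cZ _)
    (by simp) (cZ _) (e₃ ▸ comm_mem_lcs hg x) (h.eq_bot (j := n - 3 + 2) (by omega) ▸
      comm_not_mem_lcs hn h3 hx (by omega) (by omega) hg hg') pZ
  obtain ⟨y, hy, hgy⟩ : ∃ y ∈ K, ¬ Commute g y := by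
    by_contra! e
    exact hg' (e₃ ▸ hZ g (hK.le (lcs_anti (by omega) hg)) e)
  have w₂ := eig_pair_eq hE₃ hb hW hg hy (iK y hy) (e₃ ▸ cZ _)
    ((commutator_lcs _ _).trans (h.eq_bot (by omega)).le) (cZ _) (e₃ ▸ comm_mem_lcs hg y)
    (mt commutatorElement_eq_one_iff_commute.1 hgy) pZ
  simp only [Nat.cast_mul, Nat.cast_pow, ZMod.natCast_zmod_val] at w₁ w₂
  have eb : (b : ZMod p) = l⁻¹ := mul_left_cancel₀ (left_ne_zero_of_mul (w₁ ▸ l0)) (w₂.symm.trans w₁)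
  have hdvd : p - 1 ∣ n := hl ▸ orderOf_dvd_of_pow_eq_one (by
    obtain ⟨m, rfl⟩ : ∃ m, n = m + 3 := ⟨n - 3, by omega⟩
    rw [eb, Nat.add_sub_cancel] at w₁
    field_simp at w₁
    rw [one_div, inv_pow, ← mul_eq_one_iff_eq_inv₀ (pow_ne_zero _ l0)] at w₁
    linear_combination w₁)
  have hle : n ≤ p + 2 := not_lt.1 fun e => by
    obtain ⟨y, hy, hy'⟩ := SetLike.exists_of_lt (lcs_lt h.isPGroup (h.ne_bot (j := 1) (by omega)))
    exact pow_not_mem_lcs hn h3 hx le_rfl (by omega) hy hy'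
      (lcs_anti (by omega) (hc.le (hKp y (hK.le hy))))
  have hnp : n = p - 1 := by
    obtain ⟨k, hk⟩ := hdvd
    have h4 : p ≠ 4 := by rintro rfl; exact absurd hp.out (by decide)
    rcases k with _ | _ | k
    · omega
    · omega
    · have : (p - 1) * 2 ≤ (p - 1) * (k + 1 + 1) := Nat.mul_le_mul_left _ (by omega)
      omega
  refine ⟨hnp, fun s => ?_⟩
  have ne1 : ∀ j, 1 ≤ j → j < n → l ^ j ≠ 1 := fun j h₁ h₂ =>
    pow_ne_one_of_lt_orderOf (by omega) (by omega)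
  have p₁ : ∀ j, 1 ≤ j → ∀ y ∈ lcs G j, y ^ p = 1 := fun j hj y hy =>
    (h.eq_bot (by omega)).le (pow_mem_lcs hn h3 hx hj hy)
  have p₂ : ∀ s, ∀ y ∈ lcs G 1, (s * y) ^ p = s ^ p := fun s y hy => by
    have := (h.eq_bot (by omega)).le (filt_lcs.pow_formula hp.out le_rfl (x := s) trivial hy
      fun j hj s hs => by rw [p₁ _ (by omega) s hs]; exact one_mem _)
    rwa [p₁ 1 le_rfl y hy, mem_bot.1 ((h.eq_bot (by omega)).le (itc_mem (x := s) hy (p - 1))),
      mul_one, inv_one, one_mul, mem_bot, inv_mul_eq_one, eq_comm] at this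
  have q₁ : s ^ p ∈ lcs G 1 := (QuotientGroup.eq_one_iff _).1 (eq_on_top hK hxK
    (f := (powMonoidHom p).comp Abelianization.of) (g := 1) (by simp [← map_pow, hxp])
    (fun y hy => (QuotientGroup.eq_one_iff _).2 (hK.pow_mem_tsr h 0 y hy)) s)
  have q₂ : (s ^ (l⁻¹).val)⁻¹ * σ s ∈ lcs G 1 := QuotientGroup.eq.1 (eq_on_top hK hxK
    (f := (powMonoidHom (l⁻¹).val).comp Abelianization.of)
    (g := Abelianization.of.comp σ.toMonoidHom) (by simp [σx, zp_val])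
    (fun y hy => QuotientGroup.eq.2 (hb.congr (hK.pow_mem_tsr h 0) (by simp [eb]) y hy)) s)
  have q₃ : ((s ^ p) ^ (l⁻¹).val)⁻¹ * σ (s ^ p) = 1 := by
    have := p₂ (s ^ (l⁻¹).val) _ q₂
    rw [mul_inv_cancel_left] at this
    rw [map_pow, this, pow_right_comm, inv_mul_cancel]
  have q₄ : ∀ j, j ≤ n - 3 → s ^ p ∈ lcs G (j + 1) := fun j hj => by
    induction j with
    | zero => exact q₁
    | succ j ih =>
      refine by_contra fun e => ne1 (j + 1) (by omega) (by omega) ?_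
      have := (hE (j + 1) (by omega) hj).unique (ih (by omega)) e
        (by rw [p₁ 1 le_rfl _ q₁]; exact one_mem _) (q₃ ▸ one_mem _)
      simp only [Nat.cast_mul, Nat.cast_pow, ZMod.natCast_zmod_val, eb] at this
      simpa [l0] using this
  refine by_contra fun e => ne1 2 (by omega) (by omega) ?_
  have := hW.unique (e₃ ▸ q₄ _ le_rfl) e (p₁ 1 le_rfl _ q₁) q₃
  simp only [ZMod.natCast_zmod_val] at this
  rw [sq, mul_eq_one_iff_eq_inv₀ l0, ← this]

theorem exists_chain (h : MaxCl p 6 G) (hK : TwoStep p K) (hKK : ⁅K, K⁆ ≤ center G)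
    (hZ : ∀ g ∈ K, (∀ y ∈ K, Commute g y) → g ∈ center G) : ∃ b ∉ K, ∃ y ∈ K,
      ⁅⁅⁅y⁻¹, b⁆⁻¹, b⁆⁻¹, b⁆ ∉ center G ∧ Commute b ⁅⁅⁅y⁻¹, b⁆⁻¹, b⁆⁻¹, b⁆ := by
  have hu := h.ucs_eq (i := 2) (by omega)
  obtain ⟨b, hb, hbK⟩ : ∃ b ∈ centralizer (Subgroup.upperCentralSeries G 2 : Set G), b ∉ K :=
    SetLike.not_le_iff_exists.1 fun e => by
      obtain ⟨g, hg, hg'⟩ := SetLike.exists_of_lt (lcs_lt h.isPGroup (h.ne_bot (j := 3) (by omega)))
      have e' := (eq_or_eq_of_relIndex_dvd (p := p) e le_top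
        (by simpa using h.index_centralizer_ucs (by omega))).resolve_right fun e' =>
          hp.out.ne_one (by rw [← hK.idx, e', index_top])
      exact hg' (h.center_eq.le (hZ g (hK.le (lcs_anti (by omega) hg)) fun y hy =>
        e'.le hy g (hu.ge hg)))
  have hpos := pos_of_le h hK hKK
  obtain ⟨y, hy, hy'⟩ := SetLike.exists_of_lt (hK.tsr_lt h (j := 0) (by omega))
  have h₁ := hK.comm_not_mem' h hpos hbK (j := 0) (by omega) (by omega) (inv_mem hy)
    (mt inv_mem_iff.1 hy')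
  have m₁ : ⁅y⁻¹, b⁆ ∈ lcs G 1 := comm_mem_lcs (i := 0) trivial b
  have h₂ := hK.comm_not_mem' h hpos hbK (j := 1) (by omega) (by omega) (inv_mem m₁)
    (mt inv_mem_iff.1 h₁)
  have m₂ := comm_mem_lcs (inv_mem m₁) b
  have h₃ := hK.comm_not_mem' h hpos hbK (j := 2) (by omega) (by omega) (inv_mem m₂)
    (mt inv_mem_iff.1 h₂)
  exact ⟨b, hbK, y, hy, h.center_eq ▸ h₃, (hb _ (hu.ge (comm_mem_lcs (inv_mem m₂) b))).symm⟩

theorem exists_conj_pow (hn : Nat.card G = p ^ n) (h3 : 3 ≤ n)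
    (hx : Nat.card (centralizer {x}) ≤ p ^ 2) (hxp : x ^ p = 1) {P : Subgroup G} (hP : P ≠ ⊤)
    (hxP : x ∈ P) {y : G} (hy : y ∈ P) (hy' : y ∉ lcs G 1) :
    ∃ g, g * x * g⁻¹ ∈ zpowers y ∧ y ∈ zpowers (g * x * g⁻¹) := by
  have h := maxCl_of_card_le hn h3 hx
  have hx' := not_mem_lcs_of_card_le hn h3 hx
  have h₁ : P ⊔ lcs G 1 ≠ ⊤ := fun e => hP (frattini_nongenerating (top_le_iff.1
    (e.ge.trans (sup_le_sup_left (lcs_one_le_frattini h.isPGroup) _))))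
  have hle : zpowers x ⊔ lcs G 1 ≤ P ⊔ lcs G 1 := sup_le_sup_right (zpowers_le.2 hxP) _
  have h₂ := (relIndex_dvd_of_between' (p := p) le_sup_right le_top
    (fun e => hx' (e.le (mem_sup_left (mem_zpowers x)))) (fun e => h₁ (top_le_iff.1 (e.ge.trans hle)))
    (by rw [relIndex_top_right, h.index_lcs le_rfl (by omega)])).2
  obtain ⟨k, m, hm, rfl⟩ := (mem_zpowers_sup_iff (by rw [normalizer_eq_top]; trivial)).1
    (((eq_or_eq_of_relIndex_dvd hle le_top h₂.dvd).resolve_right h₁).le (mem_sup_left hy))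
  have hk : x ^ k ≠ 1 := fun e => hy' (by simpa [e] using hm)
  have ez := zpowers_eq_of_mem hxp (zpow_mem (mem_zpowers x) k) hk
  obtain ⟨g, hg⟩ := exists_conj_eq_mul hn h3 (x := x ^ k) ((card_le_of_le fun c hc =>
    mem_centralizer_singleton_iff.2 (commute_of_mem_zpowers_sup (N := ⊥) (Commute.symm
      (mem_centralizer_singleton_iff.1 hc)) (by simp) (mem_sup_left
        (ez.ge (mem_zpowers x)))).symm).trans hx) hm
  obtain ⟨j, hj⟩ := ez.ge (mem_zpowers x)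
  exact ⟨g, ⟨j, by simp only [← hg, conj_zpow]; exact congrArg (g * · * g⁻¹) hj⟩,
    ⟨k, by simp only [← hg, conj_zpow]⟩⟩

end Cfsg.Agent.XE
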