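import Cfsg.Agent.Lib.XE.CaseB2
import Cfsg.Agent.Lib.XE.Pearl
import Cfsg.Agent.Lib.Ess.TvAb

/-!
The case of a pearl, and the conclusion.
-/

set_option autoImplicit false
set_option linter.style.haveILetI false
set_option linter.unusedVariables false
set_option linter.unusedSectionVars false

namespace Cfsg.Agent.XE

open Subgroup Cfsg.Agent.Fus Cfsg.Agent.TwoGrp Cfsg.Agent.Ess Module
open Cfsg.Agent.Fus2 (M afn img HomOn)
open FusionSystem (normalizerIn centralizerIn)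
open scoped commutatorElement

universe u

variable {Ω : Type u} [Group Ω] {p : ℕ} [hp : Fact p.Prime]
  {V : Type*} [AddCommGroup V] [Module (ZMod p) V]

theorem eq_zero_of_nil {K : Type*} [Field K] [Module K V] {N : Module.End K V} {n : ℕ}
    (hn : N ^ n = 0) (h : ∀ v, N (N v) = 0 → N v = 0) : N = 0 := by
  have key : ∀ k v, N ((N ^ k) v) = 0 → N v = 0 := fun k => by
    induction k with
    | zero => exact fun v e => e
    | succ k ih => exact fun v e => h v (ih (N v) (by rwa [pow_succ] at e))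
  exact LinearMap.ext fun v => key n v (by simp [hn])

variable {S Q E : Subgroup Ω} [Finite S] [Finite V] {z : Ω} {π : Ω → V}
  {B : LinearMap.BilinForm (ZMod p) V} {F : FusionSystem S}

namespace Xs

variable (h : Xs p S Q z π B)
include h

theorem mem_center {x : S} : x ∈ center S ↔ (x : Ω) ∈ zpowers z :=
  ⟨fun hx => mem_zpowers_mk_iff.1 (h.center_le hx), fun hx => Subgroup.mem_center_iff.2 fun y =>
    Subtype.ext (h.cenZ hx y.2).symm.eq⟩

theorem comm_le_center : ⁅Q.subgroupOf S, Q.subgroupOf S⁆ ≤ center S :=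
  commutator_le.2 fun x hx y hy => h.mem_center.2 (h.comm_mem (x := x) (y := y) hx hy)

theorem lcs_le : lcs S 1 ≤ Q.subgroupOf S :=
  commutator_le.2 fun x _ y _ => comm_mem_of_relIndex_dvd h.pg h.le h.idx.dvd x.2 y.2

theorem le_of_inv (hF : F.IsSaturated p) {P : Subgroup Ω} (hP : F.IsEssential p P)
    (h₁ : ∀ β ∈ F.autGroup P, afn β z ∈ zpowers z)
    (h₂ : ∀ β ∈ F.autGroup P, ∀ x ∈ P, x ∉ Q → afn β x ∉ Q) : Q ≤ P := by
  haveI := finite_of_le hP.1.1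
  have hzP := cen_le_of_centric hP.1 (mem_cen.2 ⟨h.le h.mem, h.cen⟩)
  have hd := essData h.pg hF hP
  have iQ : Inv (F.autGroup P) (Q.subgroupOf P) := inv_subgroupOf_iff.2 fun β hβ x hx hxQ =>
    not_not.1 fun e => h₂ β⁻¹ (inv_mem hβ) _ (Fus2.afn_mem β hx) e (by simpa using hxQ)
  have iZ : Inv (F.autGroup P) ((zpowers z).subgroupOf P) := inv_subgroupOf_iff.2
    fun β hβ x hx hxZ => homOn_mem_zpowers (Fus2.homOn_afn β) hzP hxZ (h₁ β hβ)
  haveI := hd.normal_of_inv iZ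
  refine le_of_ctl h.pg hF hP h.le (hP.1.1.trans h.norm) fun g hg hN => ?_
  have hm := conjAut_mem_autGroup (F := F) hP.1.1 (h.le hg) hN
  exact ((ctl_ncl_single le_top (inv_top _) iQ (trivOn_conjAut_top_iff.2 fun x hx =>
    h.dl_mem' (h.le hg) (hP.1.1 hx))).trans_normal hd.hG
      (iZ.mono (ncl_le (Set.singleton_subset_iff.2 hm)))
      (ctl_ncl_single (comap_mono h.Z_le) iQ iZ (trivOn_conjAut_iff.2 fun x hx hxQ =>
        inv_mul_conj_eq x g ▸ h.comm_mem (inv_mem hxQ) hg))).trans_bot hd.hG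
    (ctl_ncl_single bot_le iZ (inv_bot _) (trivOn_bot_iff.2 fun x hx =>
      Subtype.ext (h.conj_Z (x := x) (h.le hg) hx)))

theorem le_card_cen {u : Ω} (hu : u ∈ Q) {D : Subgroup Ω} [Finite D]
    (hD : ∀ x ∈ Q, Commute x u → x ∈ D) : p ^ finrank (ZMod p) V ≤ Nat.card D := by
  refine le_trans ?_ (card_le_of_le (show h.lq.pre (LinearMap.ker (B.flip (π u))) ≤ D from
    fun x hx => hD x hx.1 ((h.commute_iff hx.1 hu).2 hx.2)))
  have h₁ := (B.flip (π u)).finrank_range_add_finrank_ker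
  have h₂ := (LinearMap.range (B.flip (π u))).finrank_le
  rw [finrank_self] at h₂
  rw [h.card_pre]
  exact Nat.pow_le_pow_right hp.out.pos (by omega)

end Xs

namespace Su

variable (h : Su p F Q E z π B) {θ : MulAut E} (hθ : θ ∈ F.autGroup E)
  (hw : afn θ z ∉ zpowers z) (hwQ : afn θ z ∉ Q)
  (hB : ∀ α ∈ F.autGroup E, afn α z ∈ Q → afn α z ∈ zpowers z)
  {N : Module.End (ZMod p) V} (hN : IsN Q π (afn θ z) N) {g : Ω} (hg : g ∈ Q) (hg0 : N (π g) = 0)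
include h hθ hw hwQ hN hg hg0

theorem b_dl {m : Ω} (hm : m ∈ S) : dl g m ∈ zpowers z := by
  have hwS := h.leS (Fus2.afn_mem θ h.zE)
  have := h.dl_mem_Z_of hwS hwQ (inv_mem hg) ((h.dl_mem_Z hwS hN (inv_mem hg)).2
    (by rw [h.lq.inv hg, map_neg, hg0, neg_zero])) (inv_mem hm)
  simpa [dl, mul_assoc] using inv_mem this

theorem b_norm' : g ∈ normalizer (E : Set Ω) :=
  haveI := finite_of_le h.leS
  mem_normalizer_fintype fun m hm =>
    mul_dl g m ▸ mul_mem hm (h.ZE (h.b_dl hθ hw hwQ hN hg hg0 (h.leS hm)))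

variable (hgE : g ∉ E)
include hB hgE

theorem b_ker {x : Ω} (hx : x ∈ Q) (e : dl (afn θ z) x ∈ E) : N (π x) = 0 := by
  have hwE := Fus2.afn_mem θ h.zE
  have hwS := h.leS hwE
  have hn := h.b_norm hθ hw hwQ hx e
  have hc := conjAut_mem_autGroup (F := F) h.leS (inv_mem (h.le hx)) hn
  have hα := mul_mem (mul_mem (inv_mem hθ) hc) hθ
  have em : afn θ (afn (θ⁻¹ * conjAut E x⁻¹ hn * θ) z) = dl (afn θ z) x * afn θ z := by
    simp [Fus2.afn_mul, Fus2.afn_conjAut _ hwE, dl, mul_assoc]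
  refine (h.dl_mem_Z hwS hN hx).1 ?_
  by_cases hm : afn (θ⁻¹ * conjAut E x⁻¹ hn * θ) z ∈ zpowers z
  · have h₁ := (Subgroup.mul_mem_cancel_right _ (mem_zpowers _)).1 (em ▸ h.afn_Z (α := θ) hm)
    by_contra h₂
    exact hwQ (zpowers_le.2 (h.dl_mem hwS hx) ((zpowers_eq_of_mem (h.afn_pow θ) h₁
      fun e => h₂ (e ▸ one_mem _)).ge (mem_zpowers _)))
  have hmE := Fus2.afn_mem (θ⁻¹ * conjAut E x⁻¹ hn * θ) h.zE
  obtain ⟨n, hn'⟩ := h.exists_conj_eq (h.le hg) (h.b_dl hθ hw hwQ hN hg hg0 (h.leS hmE))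
    (fun e => hgE (h.semi _ hα hm g (h.le hg) e)) (inv_mem (mem_zpowers z))
  have hgn := pow_mem (h.b_norm' hθ hw hwQ hN hg hg0) n
  have e' : afn (θ * conjAut E (g ^ n) hgn * (θ⁻¹ * conjAut E x⁻¹ hn * θ)) z = dl (afn θ z) x := by
    rw [Fus2.afn_mul, Fus2.afn_mul, Fus2.afn_conjAut _ hmE, hn', afn_mul' θ hmE (inv_mem h.zE), em,
      afn_inv' θ h.zE, mul_inv_cancel_right]
  exact e' ▸ hB _ (mul_mem (mul_mem hθ (conjAut_mem_autGroup h.leS (S.pow_mem (h.le hg) n) hgn)) hα)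
    (e' ▸ h.dl_mem hwS hx)

omit hB in
theorem b_gen {y : Ω} (hy : y ∈ Q) (hy0 : N (π y) = 0) : ∃ k : ℤ, (g ^ k)⁻¹ * y ∈ Q ⊓ E := by
  have hwS := h.leS (Fus2.afn_mem θ h.zE)
  have hom : HomOn (h.lq.pre (LinearMap.ker N)) (dl (afn θ z)) := fun x hx y hy =>
    h.dl_mul_of_ker hwS hN hx.1 hy.1 hx.2
  have hg' : g ∈ h.lq.pre (LinearMap.ker N) := ⟨hg, hg0⟩
  obtain ⟨k, hk⟩ := (zpowers_eq_of_mem h.pow ((h.dl_mem_Z hwS hN hg).2 hg0) fun e =>
    hgE (h.semi θ hθ hw g (h.le hg) (dl_eq_one.1 e).symm)).ge ((h.dl_mem_Z hwS hN hy).2 hy0)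
  have hm := mul_mem (inv_mem (zpow_mem hg k)) hy
  refine ⟨k, hm, h.semi θ hθ hw _ (h.le hm) (dl_eq_one.1 ?_).symm⟩
  rw [hom _ (inv_mem (zpow_mem hg' k)) y ⟨hy, hy0⟩, hom.map_inv (zpow_mem hg' k),
    hom.map_zpow hg', inv_mul_eq_one]
  exact hk

theorem b_inf {e : Ω} (he : e ∈ Q ⊓ E) : e ∈ zpowers z := by
  have hwS := h.leS (Fus2.afn_mem θ h.zE)
  obtain ⟨u, hu, hu'⟩ : ∃ u, N (N u) = 0 ∧ N u ≠ 0 := by
    by_contra! hc
    exact h.N_ne_zero hwS hwQ hN (eq_zero_of_nil (h.N_pow hwS hN) hc)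
  obtain ⟨x, hx, rfl⟩ := h.lq.surj u
  have hx₁ := h.dl_mem hwS hx
  have h0 := h.N_eq_zero hwS hN he.1 (h.commute_afn θ he.2).symm
  obtain ⟨v, hv⟩ := h.mem_range hwS hN (v := π e) fun v hv => by
    obtain ⟨y, hy, rfl⟩ := h.lq.surj v
    obtain ⟨k, hk⟩ := h.b_gen hθ hw hwQ hN hx₁ (by rw [hN x hx, hu])
      (fun e => hu' (h.b_ker hθ hw hwQ hB hN hg hg0 hgE hx e)) hy hv
    have h₁ := (h.commute_iff hx₁ he.1).2 (by rw [hN x hx, h.orth_of_ker hwS hN h0])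
    simpa [← h.commute_iff hy he.1] using
      (h₁.zpow_left k).mul_left (h.b_comm hθ hw hwQ hk.2 he.2).1
  obtain ⟨y, hy, rfl⟩ := h.lq.surj v
  refine (h.lq.ker e he.1).1 (hv ▸ h.b_ker hθ hw hwQ hB hN hg hg0 hgE hy ?_)
  simpa using mul_mem he.2 (h.ZE ((h.lq.eq_iff he.1 (h.dl_mem hwS hy)).1 (by rw [hN y hy, hv])))

theorem b_rank : 2 ≤ finrank (ZMod p) (LinearMap.range N) := by
  have := (Submodule.finrank_mono (show LinearMap.ker N ≤ Submodule.span _ {π g} from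
    fun v hv => by
      obtain ⟨y, hy, rfl⟩ := h.lq.surj v
      obtain ⟨k, hk⟩ := h.b_gen hθ hw hwQ hN hg hg0 hgE hy hv
      rw [← (h.lq.eq_iff (zpow_mem hg k) hy).2 (h.b_inf hθ hw hwQ hB hN hg hg0 hgE hk),
        show π (g ^ k) = k • π g from h.lq.homOn.map_zpow hg k]
      exact zsmul_mem (Submodule.mem_span_singleton_self _) k)).trans (finrank_span_le_card _)
  have h₁ := N.finrank_range_add_finrank_ker
  have h₂ := h.four
  simp at this
  omega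

theorem b_sup {u : Ω} (hu : u ∈ E) (hu' : u ∉ zpowers z) : zpowers u ⊔ zpowers z = E := by
  have key : ∀ x ∈ E, ∃ k : ZMod p, ∃ q ∈ zpowers z, zp (afn θ z) k * q = x := fun x hx => by
    obtain ⟨k, q, hq, e⟩ := h.b_eq hθ hw hwQ hx
    exact ⟨k, q, h.b_inf hθ hw hwQ hB hN hg hg0 hgE hq, e⟩
  refine le_antisymm (sup_le (zpowers_le.2 hu) h.ZE) fun x hx => ?_
  obtain ⟨k, q, hq, rfl⟩ := key x hx
  obtain ⟨j, r, hr, rfl⟩ := key u hu
  refine mul_mem (zp_mem (mem_of_zp_mem (h.afn_pow θ) (i := j) (fun e => hu' (by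
    simpa [e, zp_zero] using hr)) ?_) k) (mem_sup_right hq)
  exact (Subgroup.mul_mem_cancel_right _ (mem_sup_right hr)).1 (mem_sup_left (mem_zpowers _))

theorem b_cen {u s : Ω} (hu : u ∈ E) (hu' : u ∉ zpowers z) (hs : s ∈ S) (e : Commute u s) :
    s ∈ E := h.semi θ hθ hw s hs (commute_of_mem_zpowers_sup e (fun n hn => h.cenZ hn hs)
  ((h.b_sup hθ hw hwQ hB hN hg hg0 hgE hu hu').ge (Fus2.afn_mem θ h.zE))).symm

theorem b_card : Nat.card E ≤ p ^ 2 := by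
  have hwE := Fus2.afn_mem θ h.zE
  rw [← h.b_sup hθ hw hwQ hB hN hg hg0 hgE hwE hw, sq]
  exact (card_sup_le (mem_normalizer_of_commute fun x hx => (h.cenZ hx (h.leS hwE)).symm)
    (h.afn_pow θ ▸ one_mem _)).trans_eq (by rw [h.card_Z])

theorem b_card_cen {u : S} (hu : (u : Ω) ∈ E) (hu' : (u : Ω) ∉ zpowers z) :
    Nat.card (centralizer {u}) ≤ p ^ 2 :=
  (card_le_of_le (show _ ≤ E.subgroupOf S from fun s hs => h.b_cen hθ hw hwQ hB hN hg hg0 hgE hu hu'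
    s.2 (congrArg Subtype.val (mem_centralizer_singleton_iff.1 hs)).symm)).trans
    ((Fit.card_subgroupOf_of_le h.leS).trans_le (h.b_card hθ hw hwQ hB hN hg hg0 hgE))

theorem b_ext : ExtTop F (normalizerIn S E) := by
  have hwE := Fus2.afn_mem θ h.zE
  have hwS := h.leS hwE
  refine extTop_of h.pg h.sat fun f hf P hP hfP => ?_
  have hw₁ := hfP _ ⟨hwS, le_normalizer hwE⟩
  have hg₁ := hfP _ ⟨h.le hg, h.b_norm' hθ hw hwQ hN hg hg0⟩
  have hfQ := h.inv_Q hf hwS hN (h.b_rank hθ hw hwQ hB hN hg hg0 hgE)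
  have hw₂ : f (afn θ z) ∉ Q := fun e => by
    obtain ⟨q, hq, e'⟩ := (hf.mono h.le).mem_img.1 (((hf.mono h.le).img_eq_self hfQ).ge e)
    exact hwQ (hf.inj _ (h.le hq) _ hwS e' ▸ hq)
  have hzP := cen_le_of_centric hP.1 (mem_cen.2 ⟨h.le h.mem, h.cen⟩)
  obtain ⟨α, hα, eα⟩ := hf.exists_aut' fun x hx => hf.mem hx
  have hZ : ∀ β ∈ F.autGroup P, afn β z ∈ zpowers z := fun β hβ => by
    have hS := hP.1.1 (Fus2.afn_mem β hzP)
    have hc : ∀ x ∈ S, f x ∈ P → Commute (afn α⁻¹ (afn β z)) x := fun x hx hx' => by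
      have := afn_commute β hzP (Fus2.afn_mem β⁻¹ hx') (h.cen _ (hP.1.1 (Fus2.afn_mem β⁻¹ hx')))
      rw [Fus2.afn_afn_inv, ← eα x hx] at this
      simpa using afn_commute α⁻¹ hS (Fus2.afn_mem α hx) this
    have := homOn_mem_zpowers (Fus2.homOn_afn α) (h.le h.mem) (not_not.1 fun e => hgE
      (h.b_cen hθ hw hwQ hB hN hg hg0 hgE (h.semi θ hθ hw _ (Fus2.afn_mem α⁻¹ hS) (hc _ hwS hw₁)) e
        (h.le hg) (hc g (h.le hg) hg₁))) (h.map_z (M_afn le_rfl hα))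
    rwa [Fus2.afn_afn_inv] at this
  refine (lt_of_isEssential h.pg h.sat hP).not_ge ((h.sup_eq (hf.mem hwS) hw₂).ge.trans
    (sup_le (zpowers_le.2 hw₁) (h.le_of_inv h.sat hP hZ fun β hβ y hy hyQ hβy => ?_)))
  have ex : (α ⟨_, hwS⟩ : Ω) = f (afn θ z) := by rw [← Fus2.afn_apply α hwS, eα _ hwS]
  obtain ⟨s, hs, -⟩ := exists_conj_pow (x := α ⟨_, hwS⟩) (P := P.subgroupOf S) h.card_S
    (by have := h.four; omega) ((card_centralizer_apply α _).trans_le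
      (h.b_card_cen hθ hw hwQ hB hN hg hg0 hgE hwE hw))
    (by rw [← map_pow, show (⟨_, hwS⟩ : S) ^ p = 1 from Subtype.ext (h.afn_pow θ), map_one])
    (fun e => (lt_of_isEssential h.pg h.sat hP).not_ge (subgroupOf_eq_top.1 e))
    (show (α ⟨_, hwS⟩ : Ω) ∈ P from ex ▸ hw₁) (y := ⟨y, hP.1.1 hy⟩) hy fun e => hyQ (h.lcs_le e)
  replace hs : s * f (afn θ z) * (s : Ω)⁻¹ ∈ zpowers y := ex ▸ mem_zpowers_mk_iff.1 hs
  have hsup := h.b_sup hθ hw hwQ hB hN hg hg0 hgE hwE hw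
  have hf₁ := (hf.mono h.leS).comp (Fus2.M_conj F le_rfl s.2) fun x hx => hf.mem (h.leS hx)
  have hfz : ∀ x ∈ zpowers z, s * f x * (s : Ω)⁻¹ ∈ zpowers z := fun x hx => by
    have := homOn_mem_zpowers hf.homOn (h.le h.mem) hx (h.map_z hf)
    rwa [h.conj_Z s.2 this]
  have hf₂ := hf₁.comp (M_afn hP.1.1 hβ) fun x hx => (hsup ▸ hf₁.homOn).mem_of_sup
    (fun x hx => homOn_mem_zpowers hf₁.homOn hwE hx (zpowers_le.2 hy hs))
    (fun x hx => zpowers_le.2 hzP (hfz x hx)) x (hsup.ge hx)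
  haveI := finite_of_le hf₂.img_le
  have := h.le_card_cen (homOn_mem_zpowers (Fus2.homOn_afn β) hy hs hβy) fun x hx e =>
    h.ess.1.2 _ hf₂.isConj ⟨h.le hx, fun u hu => (Fus2.img_le_iff (Q := centralizer {x}).2
      (fun v hv => (hsup ▸ hf₂.homOn).mem_of_sup (fun v hv => homOn_mem_zpowers hf₂.homOn hwE hv
        (mem_centralizer_singleton_iff.2 e.symm)) (fun v hv => mem_centralizer_singleton_iff.2
          (h.cenZ (homOn_mem_zpowers (Fus2.homOn_afn β) hzP (hfz v hv) (hZ β hβ)) (h.le hx)))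
        v (hsup.ge hv)) hu x rfl).symm⟩
  rw [hf₂.card_img] at this
  have h₁ := (Nat.pow_le_pow_iff_right hp.out.one_lt).1
    (this.trans (h.b_card hθ hw hwQ hB hN hg hg0 hgE))
  have := h.four
  omega

theorem caseB1 [Group.IsNilpotent S] : CG2 p S ∨ (11 ≤ p ∧ Nat.card S = p ^ (p - 1) ∧
    (∀ x : S, x ^ p = 1) ∧ Group.nilpotencyClass S = p - 2) := by
  have hwE := Fus2.afn_mem θ h.zE
  have hwS := h.leS hwE
  have hgN := h.b_norm' hθ hw hwQ hN hg hg0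
  have eN : normalizerIn S E = zpowers g ⊔ E := le_antisymm (fun s hs => by
      obtain ⟨k, q, hq, rfl⟩ := h.exists_eq hwS hwQ hs.1
      have hqN := (Subgroup.mul_mem_cancel_left _ (le_normalizer (zpow_mem hwE k))).1 hs.2
      obtain ⟨j, hj⟩ := h.b_gen hθ hw hwQ hN hg hg0 hgE hq (h.b_ker hθ hw hwQ hB hN hg hg0 hgE hq
        (dl_eq_comm _ q ▸ comm_mem_of_mem_normalizer (inv_mem hqN) hwE))
      exact mul_mem (mem_sup_right (zpow_mem hwE k)) ((Subgroup.mul_mem_cancel_left _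
        (inv_mem (mem_sup_left (zpow_mem (mem_zpowers g) j)))).1 (mem_sup_right hj.2)))
    (sup_le (zpowers_le.2 ⟨h.le hg, hgN⟩) (le_normalizerIn h.leS))
  obtain ⟨w, C, hw₁, hw₂, hw₃, -, -, -, -, -, hτ⟩ := exists_tvAb h.pg h.sat h.ess
    (fun x hx y hy => (h.b_comm hθ hw hwQ hx hy).1)
    (eN ▸ relIndex_zpowers_sup_dvd hgN (h.ZE (h.powm g hg))) ⟨h.le hg, hgN⟩ hgE h.zE h.pow
    (h.cen g (h.le hg)).symm fun x hx => by
      simpa [dl_eq_comm] using h.b_dl hθ hw hwQ hN hg hg0 (h.leS (inv_mem hx))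
  obtain ⟨l, hl⟩ := IsCyclic.exists_ofOrder_eq_natCard (α := (ZMod p)ˣ)
  rw [Nat.card_eq_fintype_card, ZMod.card_units, ← orderOf_units] at hl
  obtain ⟨f, hf, -, f₁, f₂, -⟩ := hτ l l.ne_zero
  obtain ⟨σ, hσ, eσ⟩ := h.b_ext hθ hw hwQ hB hN hg hg0 hgE f hf
  have hwZ : w ∉ zpowers z := fun e => hw₃ (h.cenZ e (h.le hg)).symm
  have hwK : (⟨w, h.leS hw₁⟩ : S) ∉ Q.subgroupOf S := fun e =>
    hwZ (h.b_inf hθ hw hwQ hB hN hg hg0 hgE ⟨e, hw₁⟩)
  have hx := h.b_card_cen hθ hw hwQ hB hN hg hg0 hgE (u := ⟨w, h.leS hw₁⟩) hw₁ hwZ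
  have h4 := h.four
  have hm := maxCl_of_card_le h.card_S (by omega) hx
  have hK : TwoStep p (Q.subgroupOf S) := ⟨h.idx, h.lcs_le, (commutator_mono le_rfl h.lcs_le).trans
    (h.comm_le_center.trans (hm.center_eq.le.trans (lcs_anti (by omega))))⟩
  have hZ : ∀ g ∈ Q.subgroupOf S, (∀ y ∈ Q.subgroupOf S, Commute g y) → g ∈ center S :=
    fun g _ e => h.mem_center.2 (h.cenS g g.2 fun y hy =>
      congrArg Subtype.val (e ⟨y, h.le hy⟩ hy).eq)
  obtain ⟨hn, hexp⟩ := pearl_weights h.card_S (by omega) hK hwK hx (Subtype.ext hw₂)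
    h.comm_le_center (fun y hy => h.mem_center.2 (h.powm y hy)) hZ (z := ⟨z, h.le h.mem⟩)
    (h.mem_center.2 (mem_zpowers z)) (fun e => h.ne (congrArg Subtype.val e)) (σ := σ) l.ne_zero hl
    (Subtype.ext (by
      rw [← Fus2.afn_apply σ, eσ z (le_normalizerIn h.leS h.zE), f₁]
      exact (map_zp S.subtype ⟨z, _⟩ _).symm))
    (Subtype.ext (by
      rw [← Fus2.afn_apply σ, eσ w (le_normalizerIn h.leS hw₁), f₂]
      exact (map_zp S.subtype ⟨w, _⟩ _).symm))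
  by_cases h7 : p = 7
  · have hd : finrank (ZMod p) V = 4 := by omega
    obtain ⟨b, hb, y, hy, h₁, h₂⟩ := exists_chain (by rwa [hd] at hm) hK h.comm_le_center hZ
    obtain ⟨N', hN'⟩ := h.exists_isN b.2
    have m₁ := h.dl_mem b.2 (x := y) hy
    have m₂ := h.dl_mem b.2 m₁
    refine Or.inl (h.cg2_of hd (fun x hx => congrArg Subtype.val (hexp ⟨x, h.le hx⟩)) b.2 hb
      (congrArg Subtype.val (hexp b)) (y := y) hy hN' (fun e => h₁ (h.mem_center.2 ?_)) ?_)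
    · rw [← hN' y hy, ← hN' _ m₁, ← h.dl_mem_Z b.2 hN' m₂] at e
      rw [dl_eq_comm, dl_eq_comm, dl_eq_comm] at e
      exact e
    · simpa [dl_eq_comm] using h₂.map S.subtype
  · refine Or.inr ⟨?_, hn ▸ h.card_S, hexp, by rw [MaxCl.nilpotencyClass_eq hm]; omega⟩
    by_contra h11
    have : p = 8 ∨ p = 9 ∨ p = 10 := by omega
    rcases this with rfl | rfl | rfl <;> exact absurd hp.out (by decide)

end Su

theorem main [Group.IsNilpotent S] (h : Xs p S Q z π B) (hF : F.IsSaturated p) (hO : F.core = ⊥)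
    (hQ : IsExtraspecial p Q) (h6 : p ^ 6 ≤ Nat.card S) : CSL p S ∨ CSU p S ∨ CG2 p S ∨
      (11 ≤ p ∧ Nat.card S = p ^ (p - 1) ∧ (∀ x : S, x ^ p = 1) ∧
        Group.nilpotencyClass S = p - 2) := by
  obtain ⟨E, h, θ, hθ, hw⟩ := exists_su h hF hO hQ (by
    have := (Nat.pow_le_pow_iff_right hp.out.one_lt).1 (h.card_S ▸ h6); omega)
  by_cases hB : ∀ α ∈ F.autGroup E, afn α z ∈ Q → afn α z ∈ zpowers z
  · have hwQ := mt (hB θ hθ) hw
    obtain ⟨N, hN⟩ := h.exists_isN (h.leS (Fus2.afn_mem θ h.zE))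
    by_cases hK : ∀ g ∈ Q, N (π g) = 0 → g ∈ E
    · exact Or.inr (Or.inl (h.caseB2 hθ hw hwQ hB hN hK))
    · push Not at hK
      obtain ⟨g, hg, hg0, hgE⟩ := hK
      exact Or.inr (Or.inr (h.caseB1 hθ hw hwQ hB hN hg hg0 hgE))
  · push Not at hB
    obtain ⟨α, hα, h₁, h₂⟩ := hB
    exact (h.caseA hα h₂ h₁).imp_right fun e => Or.inr (Or.inl e)

end Cfsg.Agent.XE
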