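import Mathlib

/-!
Groups generated by Siegel transformations of a four-dimensional space of minus type.
-/

set_option autoImplicit false
set_option linter.unusedVariables false
set_option linter.unusedSectionVars false
set_option linter.unnecessarySeqFocus false

namespace Cfsg.Agent.XE

variable {F U M : Type*} [Field F] [AddCommGroup U] [Module F U] [AddCommGroup M] [Module F M]

/-- `𝒢` contains the Siegel transformations with centre `z`, and an element moving `z` to `w`;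
the only conjugate of `F z` in the kernel of `χ` is `F z`. -/
structure LA (q : U →ₗ[F] U →ₗ[F] F) (a : U →ₗ[F] M) (w z : M) (χ : M →ₗ[F] F)
    (𝒢 : Set (Module.End F M)) : Prop where
  two : (2 : F) ≠ 0
  rep : ∀ k l : F, k ≠ 0 → l ≠ 0 → ∀ c, ∃ i j, k * i ^ 2 + l * j ^ 2 = c
  symm : ∀ u v, q u v = q v u
  χw : χ w = 1
  χz : χ z = 0
  χa : ∀ u, χ (a u) = 0
  ind : ∀ v (s : F), a v = s • z → a v = 0
  rad : ∀ u, a u = 0 → ∀ v, q u v = 0
  span : ∀ m, ∃ (r : F) (v : U) (s : F), m = r • w + a v + s • z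
  mul : ∀ β ∈ 𝒢, ∀ γ ∈ 𝒢, β * γ ∈ 𝒢
  inv : ∀ β ∈ 𝒢, ∃ γ ∈ 𝒢, (∀ m, β (γ m) = m) ∧ ∀ m, γ (β m) = m
  sgl : ∀ u, ∃ t ∈ 𝒢, t w = w + a u + (q u u / 2) • z ∧ t z = z ∧ ∀ v, t (a v) = a v + q v u • z
  mov : ∃ θ ∈ 𝒢, θ z = w
  fix : ∀ β ∈ 𝒢, χ (β z) = 0 → ∃ c : F, β z = c • z

namespace LA

variable {q : U →ₗ[F] U →ₗ[F] F} {a : U →ₗ[F] M} {w z : M} {χ : M →ₗ[F] F}
  {𝒢 : Set (Module.End F M)} (h : LA q a w z χ 𝒢)
include h

section

variable {β γ : Module.End F M} (hβ : β ∈ 𝒢) (hγ : γ ∈ 𝒢) (e₁ : ∀ m, β (γ m) = m)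
  (e₂ : ∀ m, γ (β m) = m) {r s : F} (hr : r ≠ 0) (e : β z = r • w + s • z)
include hβ hγ e₁ e₂

theorem fix' {δ : Module.End F M} (hδ : δ ∈ 𝒢) (h0 : χ (γ (δ z)) = 0) :
    ∃ c : F, δ z = c • β z := by
  obtain ⟨c, hc⟩ := h.fix _ (h.mul γ hγ δ hδ) h0
  exact ⟨c, by rw [← map_smul, ← hc]; exact (e₁ _).symm⟩

include hr e

theorem z_ne : χ (γ z) ≠ 0 := fun h0 => by
  obtain ⟨c, hc⟩ := h.fix _ hγ h0
  have h₁ := congrArg β hc
  rw [e₁, map_smul, e] at h₁
  have h₂ := congrArg χ h₁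
  simp only [map_add, map_smul, h.χw, h.χz, smul_eq_mul] at h₂
  obtain rfl : c = 0 := mul_right_cancel₀ hr (by linear_combination -h₂)
  have h₃ := congrArg (fun m => χ (β m)) h₁
  simp only [e, map_add, map_smul, h.χw, h.χz, smul_eq_mul, zero_smul, map_zero] at h₃
  exact hr (by linear_combination h₃)

theorem val_ne {u : U} (hu : a u ≠ 0) : χ (γ (a u)) + q u u / 2 * χ (γ z) ≠ 0 := fun h0 => by
  obtain ⟨t, ht, t₁, t₂, -⟩ := h.sgl u
  have e₃ : (t * β) z = β z + r • (a u + (q u u / 2) • z) := by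
    rw [Module.End.mul_apply, e, map_add, map_smul, map_smul, t₁, t₂]; module
  obtain ⟨c, hc⟩ := h.fix' hβ hγ e₁ e₂ (h.mul t ht β hβ) (by
    simp only [e₃, map_add, map_smul, e₂, h.χz, smul_eq_mul, h0, mul_zero, add_zero])
  rw [e₃] at hc
  have h₂ := congrArg χ hc
  simp only [e, map_add, map_smul, h.χw, h.χz, h.χa, smul_eq_mul] at h₂
  obtain rfl : c = 1 := mul_right_cancel₀ hr (by linear_combination -h₂)
  rw [one_smul, add_eq_left, smul_eq_zero_iff_right hr, add_eq_zero_iff_eq_neg, ← neg_smul] at hc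
  exact hu (h.ind _ _ hc)

theorem lin_or {u : U} : χ (γ (a u)) = 0 ∨ q u u = 0 := by
  by_contra! hc
  have hz := h.z_ne hβ hγ e₁ e₂ hr e
  have two := h.two
  have hk : -2 * χ (γ (a u)) / (q u u * χ (γ z)) ≠ 0 :=
    div_ne_zero (mul_ne_zero (neg_ne_zero.2 two) hc.1) (mul_ne_zero hc.2 hz)
  refine h.val_ne hβ hγ e₁ e₂ hr e (u := (-2 * χ (γ (a u)) / (q u u * χ (γ z))) • u)
    (by rw [map_smul]; exact smul_ne_zero hk fun e => hc.1 (by simp [e])) ?_
  have := hc.2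
  simp only [map_smul, LinearMap.smul_apply, smul_eq_mul]
  field_simp; ring

end

theorem anis {u : U} (hq : q u u = 0) : a u = 0 := by
  by_contra hu
  obtain ⟨θ, hθ, eθ⟩ := h.mov
  obtain ⟨γ, hγ, e₁, e₂⟩ := h.inv θ hθ
  have e : θ z = (1 : F) • w + (0 : F) • z := by simp [eθ]
  have hz := h.z_ne hθ hγ e₁ e₂ one_ne_zero e
  have hl : χ (γ (a u)) ≠ 0 := by simpa [hq] using h.val_ne hθ hγ e₁ e₂ one_ne_zero e hu
  have h₁ : ∀ v, χ (γ (a v)) = 0 → a v = 0 := fun v hv => not_not.1 fun hv' => by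
    have h₂ := (h.lin_or hθ hγ e₁ e₂ one_ne_zero e (u := u + v)).resolve_left (by simpa [hv])
    have h₃ := (h.lin_or hθ hγ e₁ e₂ one_ne_zero e (u := u - v)).resolve_left (by simpa [hv])
    simp only [map_add, map_sub, LinearMap.add_apply, LinearMap.sub_apply, hq] at h₂ h₃
    refine h.val_ne hθ hγ e₁ e₂ one_ne_zero e hv' ?_
    rw [hv, show q v v = 0 from mul_left_cancel₀ h.two (by linear_combination h₂ + h₃)]
    simp
  have h₂ : ∀ v, q v u = 0 := fun v => by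
    have := h.rad _ (h₁ (v - (χ (γ (a v)) / χ (γ (a u))) • u) (by simp [hl])) u
    simpa [hq] using this
  have h₃ : ∀ j : F, ∃ t ∈ 𝒢, ∀ m, t m = m + (j * χ m) • a u := fun j => by
    obtain ⟨t, ht, t₁, t₂, t₃⟩ := h.sgl (j • u)
    refine ⟨t, ht, fun m => ?_⟩
    obtain ⟨r, v, s, rfl⟩ := h.span m
    simp only [map_add, map_smul, t₁, t₂, t₃, h₂, h.χw, h.χz, h.χa, smul_eq_mul,
      LinearMap.smul_apply]
    module
  have h₄ : ∀ j : F, ∃ t ∈ 𝒢, ∀ m, t m = m + (j * χ (γ m)) • θ (a u) := fun j => by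
    obtain ⟨t, ht, e⟩ := h₃ j
    exact ⟨_, h.mul _ (h.mul θ hθ t ht) γ hγ, fun m => by simp [e, e₁]⟩
  have h₅ : ∀ β ∈ 𝒢, ∀ (c : F) (m : M), β z = z + c • m → χ m = 0 → c = 0 ∨ ∃ k : F, m = k • z :=
    fun β hβ c m e h0 => or_iff_not_imp_left.2 fun hc => by
      obtain ⟨k, hk⟩ := h.fix β hβ (by simp [e, h.χz, h0])
      exact ⟨(k - 1) / c, by
        rw [div_eq_inv_mul, mul_smul, sub_smul, ← hk, e]; simp [hc]⟩
  obtain ⟨t₁, ht₁, f₁⟩ := h₄ 1
  have h₆ : χ (θ (a u)) ≠ 0 := fun h0 => by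
    obtain ⟨k, hk⟩ := (h₅ t₁ ht₁ _ _ (f₁ z) h0).resolve_left (by simpa)
    have := congrArg (fun m => χ (γ m)) hk
    simp only [e₂, h.χa, map_smul, smul_eq_mul] at this
    rw [(mul_eq_zero.1 this.symm).resolve_right hz, zero_smul] at hk
    exact hu (by rw [← e₂ (a u), hk, map_zero])
  obtain ⟨t₂, ht₂, f₂⟩ := h₃ (1 / (χ (θ (a u)) * χ (γ (a u))))
  obtain ⟨t₃, ht₃, f₃⟩ := h₄ (-1 / 2)
  have two := h.two
  rcases h₅ _ (h.mul _ ht₃ _ (h.mul _ ht₂ _ ht₁)) (χ (γ z) / χ (γ (a u))) (a u) (by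
    simp only [Module.End.mul_apply, f₁, f₂, f₃, map_add, map_smul, h.χz, h.χa, e₂, smul_eq_mul]
    match_scalars <;> field_simp <;> ring) (h.χa u) with h0 | ⟨k, hk⟩
  · exact div_ne_zero hz hl h0
  · exact hu (h.ind _ _ hk)

theorem q_ne {u : U} (hu : a u ≠ 0) : q u u ≠ 0 := mt h.anis hu

theorem span_two {x y : U} (hx : a x ≠ 0) (hy : a y ≠ 0) (hxy : q x y = 0) (v : U) :
    ∃ i j : F, a v = i • a x + j • a y := by
  have hx' := h.q_ne hx
  have hy' := h.q_ne hy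
  have hyx := (h.symm y x).trans hxy
  set v' := v - (q v x / q x x) • x - (q v y / q y y) • y with hv'
  have h₁ : q v' x = 0 := by simp [hv', hyx, hx']
  have h₂ : q v' y = 0 := by simp [hv', hxy, hy']
  obtain ⟨i, j, e⟩ := h.rep _ _ hx' hy' (-q v' v')
  have := h.anis (u := i • x + j • y + v') (by
    simp only [map_add, map_smul, LinearMap.add_apply, LinearMap.smul_apply, smul_eq_mul, hxy, hyx,
      h₁, h₂, h.symm x v', h.symm y v']
    linear_combination e)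
  refine ⟨q v x / q x x - i, q v y / q y y - j, ?_⟩
  simp only [hv', map_add, map_sub, map_smul] at this
  linear_combination (norm := module) this

variable (h2 : ∀ v, ∃ v', ∀ k : F, a v' ≠ k • a v)
include h2

theorem exists_orth {x : U} (hx : a x ≠ 0) : ∃ y, a y ≠ 0 ∧ q x y = 0 := by
  obtain ⟨y, hy⟩ := h2 x
  exact ⟨y - (q x y / q x x) • x, by rw [map_sub, map_smul]; exact sub_ne_zero.2 (hy _),
    by simp [h.q_ne hx]⟩

theorem exists_pair : ∃ x y, a x ≠ 0 ∧ a y ≠ 0 ∧ q x y = 0 := by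
  obtain ⟨x, hx⟩ := h2 0
  obtain ⟨y, hy⟩ := h.exists_orth h2 (x := x) (by simpa using hx 0)
  exact ⟨x, y, by simpa using hx 0, hy⟩

theorem sing {β : Module.End F M} (hβ : β ∈ 𝒢) {r s : F} {v : U} (e : β z = r • w + a v + s • z) :
    r * s = q v v / 2 := by
  have two := h.two
  by_cases hr : r = 0
  · obtain ⟨c, hc⟩ := h.fix β hβ (by simp [e, hr, h.χa, h.χz])
    rw [h.rad v (h.ind v (c - s) (by rw [sub_smul, ← hc, e, hr]; simp)), hr]; simp
  obtain ⟨t, ht, t₁, t₂, t₃⟩ := h.sgl (-r⁻¹ • v)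
  have hβ' := h.mul t ht β hβ
  have e' : (t * β) z = r • w + (s - q v v / 2 / r) • z := by
    simp only [Module.End.mul_apply, e, map_add, map_smul, t₁, t₂, t₃, LinearMap.smul_apply,
      smul_eq_mul]
    match_scalars <;> field_simp <;> ring
  obtain ⟨γ, hγ, e₁, e₂⟩ := h.inv _ hβ'
  obtain ⟨x, y, hx, hy, hxy⟩ := h.exists_pair h2
  obtain ⟨i, j, hij⟩ := h.rep _ _ (h.q_ne hx) (h.q_ne hy) (2 * (s - q v v / 2 / r) / r)
  have hu : q (i • x + j • y) (i • x + j • y) = 2 * (s - q v v / 2 / r) / r := by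
    simp only [map_add, map_smul, LinearMap.add_apply, LinearMap.smul_apply, smul_eq_mul, hxy,
      h.symm y x]
    linear_combination hij
  set u := i • x + j • y
  obtain ⟨t', ht', t₁', -⟩ := h.sgl u
  obtain ⟨θ, hθ, eθ⟩ := h.mov
  have h₀ : χ (γ (a u)) = 0 := (h.lin_or hβ' hγ e₁ e₂ hr e').elim id fun e => by simp [h.anis e]
  have h₁ := congrArg χ (e₂ z)
  obtain ⟨c, hc⟩ := h.fix' hβ' hγ e₁ e₂ (h.mul _ ht' _ hθ) (by
    simp only [e', map_add, map_smul, h.χz, smul_eq_mul] at h₁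
    simp only [Module.End.mul_apply, eθ, t₁', map_add, map_smul, h₀, hu, smul_eq_mul]
    field_simp at h₁ ⊢
    linear_combination h₁)
  rw [Module.End.mul_apply, eθ, t₁', e'] at hc
  have h₂ := congrArg χ hc
  simp only [map_add, map_smul, h.χw, h.χz, h.χa, smul_eq_mul] at h₂
  rw [h.rad u (h.ind u (c * (s - q v v / 2 / r) - q u u / 2) (by
    linear_combination (norm := module) hc - h₂ • w))] at hu
  field_simp at hu ⊢
  linear_combination -hu

theorem exists_sgl' : ∃ t ∈ 𝒢, ∃ v, a v ≠ 0 ∧ t w = w ∧ t z = z + a v + (q v v / 2) • w ∧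
    ∀ x, t (a x) = a x + q x v • w := by
  have two := h.two
  obtain ⟨θ, hθ, eθ⟩ := h.mov
  obtain ⟨γ, hγ, e₁, e₂⟩ := h.inv θ hθ
  have e : θ z = (1 : F) • w + (0 : F) • z := by simp [eθ]
  have hz := h.z_ne hθ hγ e₁ e₂ one_ne_zero e
  have h₀ : ∀ u, χ (γ (a u)) = 0 := fun u =>
    (h.lin_or hθ hγ e₁ e₂ one_ne_zero e).elim id fun e => by simp [h.anis e]
  have hw : γ w = z := by rw [← eθ, e₂]
  obtain ⟨u, -, hu, -⟩ := h.exists_pair h2
  obtain ⟨t, ht, t₁, t₂, t₃⟩ := h.sgl u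
  have h₁ : ∀ m, ∃ c : F, t m = m + χ m • a u + c • z := fun m => by
    obtain ⟨r, v, s, rfl⟩ := h.span m
    refine ⟨r * (q u u / 2) + q v u, ?_⟩
    simp only [map_add, map_smul, t₁, t₂, t₃, h.χw, h.χz, h.χa, smul_eq_mul]
    module
  have ht' := h.mul _ (h.mul θ hθ t ht) γ hγ
  obtain ⟨r, v, s, ez⟩ := h.span ((θ * t * γ) z)
  obtain ⟨c, hc⟩ := h₁ (γ z)
  obtain rfl : s = 1 := by
    have := congrArg (fun m => χ (γ m)) ez
    simp only [Module.End.mul_apply, e₂, hc, map_add, map_smul, h.χa, h.χz, h₀, hw,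
      smul_eq_mul] at this
    exact mul_right_cancel₀ hz (by linear_combination -this)
  obtain rfl : r = q v v / 2 := by simpa using h.sing h2 ht' ez
  have ew : (θ * t * γ) w = w := by simp [hw, t₂, eθ]
  refine ⟨_, ht', v, fun hv => hu ?_, ew, by rw [ez]; module, fun x => ?_⟩
  · have := congrArg γ ez
    simp only [Module.End.mul_apply, e₂, hc, hv, h.rad v hv, zero_div, zero_smul, zero_add,
      one_smul] at this
    refine h.ind u (-c / χ (γ z)) ?_
    rw [div_eq_inv_mul, mul_smul, eq_inv_smul_iff₀ hz]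
    linear_combination (norm := module) this
  by_cases hx : a x = 0
  · simp [hx, h.rad x hx]
  obtain ⟨k, hk⟩ := h₁ (γ (a x))
  have ex : (θ * t * γ) (a x) = a x + k • w := by simp [hk, h₀, e₁, eθ]
  obtain ⟨t', ht'', t₁', -⟩ := h.sgl x
  have := h.sing h2 (h.mul _ ht' _ (h.mul _ ht'' _ hθ)) (r := 1 + k + q x x / 2 * (q v v / 2))
    (s := q x x / 2) (v := x + (q x x / 2) • v) (by
      rw [Module.End.mul_apply, Module.End.mul_apply t', eθ, t₁']
      simp only [map_add, map_smul, ew, ex, ez]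
      module)
  simp only [map_add, map_smul, LinearMap.add_apply, LinearMap.smul_apply, smul_eq_mul,
    h.symm v x] at this
  have hq := h.q_ne hx
  rw [ex, show k = q x v from mul_left_cancel₀ (mul_ne_zero two two) (by
    field_simp at this; linear_combination this)]

omit h2 in
theorem exists_refl {t : Module.End F M} (ht : t ∈ 𝒢) {v : U} (hv : a v ≠ 0) (e₁ : t w = w)
    (e₂ : t z = z + a v + (q v v / 2) • w) (e₃ : ∀ x, t (a x) = a x + q x v • w) :
    ∃ n ∈ 𝒢, n z = (q v v / 2) • w ∧ n w = (2 / q v v) • z ∧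
      ∀ x, n (a x) = a x - (2 * q x v / q v v) • a v := by
  have two := h.two
  have hq := h.q_ne hv
  obtain ⟨s, hs, s₁, s₂, s₃⟩ := h.sgl (-(2 / q v v) • v)
  refine ⟨_, h.mul _ (h.mul _ hs _ ht) _ hs, ?_, ?_, fun x => ?_⟩ <;>
  simp only [Module.End.mul_apply, map_add, map_smul, s₁, s₂, s₃, e₁, e₂, e₃, LinearMap.smul_apply,
    smul_eq_mul] <;>
  match_scalars <;> field_simp <;> ring

theorem exists_neg : ∃ β ∈ 𝒢, ∃ c : F, β z = c • z ∧ ∀ x, β (a x) = -a x := by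
  have two := h.two
  obtain ⟨t, ht, v, hv, e₁, e₂, e₃⟩ := h.exists_sgl' h2
  obtain ⟨n, hn, n₁, n₂, n₃⟩ := h.exists_refl ht hv e₁ e₂ e₃
  obtain ⟨y, hy, hvy⟩ := h.exists_orth h2 hv
  have hyv := (h.symm y v).trans hvy
  have hq := h.q_ne hv
  have hq' := h.q_ne hy
  obtain ⟨s, hs, s₁, s₂, s₃⟩ := h.sgl ((2 / q v v) • y)
  obtain ⟨n', hn', n₁', n₂', n₃'⟩ := h.exists_refl (h.mul _ (h.mul _ hn _ hs) _ hn) hy (by
      simp only [Module.End.mul_apply, map_smul, n₁, n₂, s₂]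
      match_scalars; field_simp) (by
      simp only [Module.End.mul_apply, map_add, map_smul, n₁, n₂, n₃, s₁, hyv, LinearMap.smul_apply,
        smul_eq_mul]
      match_scalars <;> field_simp <;> ring) fun x => by
      simp only [Module.End.mul_apply, map_add, map_sub, map_smul, n₁, n₃, s₃, hvy, smul_eq_mul]
      match_scalars <;> field_simp <;> ring
  refine ⟨_, h.mul _ hn _ hn', q y y / q v v, ?_, fun x => ?_⟩
  · simp only [Module.End.mul_apply, map_smul, n₁', n₂]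
    match_scalars; field_simp
  · obtain ⟨i, j, e⟩ := h.span_two hv hy hvy x
    simp only [e, Module.End.mul_apply, map_add, map_sub, map_smul, n₃, n₃', hvy, hyv]
    match_scalars <;> field_simp <;> ring

end LA

end Cfsg.Agent.XE
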