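import Cfsg.Agent.Lib.XE.CaseA
import Cfsg.Agent.Lib.XE.LA

/-!
The unitary case.
-/

set_option autoImplicit false
set_option linter.style.haveILetI false
set_option linter.unusedVariables false
set_option linter.unusedSectionVars false
set_option linter.unnecessarySeqFocus false

namespace Cfsg.Agent.XE

open Subgroup Cfsg.Agent.Fus Cfsg.Agent.TwoGrp Cfsg.Agent.Ess Module
open Cfsg.Agent.Fus2 (M afn img HomOn)
open FusionSystem (normalizerIn centralizerIn)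
open scoped commutatorElement

universe u

variable {Ω : Type u} [Group Ω] {p : ℕ} [hp : Fact p.Prime]
  {V : Type*} [AddCommGroup V] [Module (ZMod p) V]

open Polynomial in
theorem exists_rep (h2 : p ≠ 2) (k l : ZMod p) (hk : k ≠ 0) (hl : l ≠ 0) (c : ZMod p) :
    ∃ i j, k * i ^ 2 + l * j ^ 2 = c := by
  obtain ⟨i, j, e⟩ := FiniteField.exists_root_sum_quadratic (f := C k * X ^ 2 + C 0 * X + C (-c))
    (g := C l * X ^ 2) (degree_quadratic hk) (degree_C_mul_X_pow 2 hl)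
    (by rw [ZMod.card]; exact hp.out.eq_two_or_odd.resolve_left h2)
  exact ⟨i, j, by simp at e; linear_combination e⟩

theorem Lq.sub {Q Z : Subgroup Ω} {π : Ω → V} (h : Lq Q Z π) (W : Submodule (ZMod p) V) :
    ∃ π' : Ω → W, Lq (h.pre W) Z π' ∧ ∀ x ∈ h.pre W, (π' x : V) = π x := by
  classical
  have e : ∀ x ∈ h.pre W, ((if hx : π x ∈ W then ⟨π x, hx⟩ else 0 : W) : V) = π x :=
    fun x hx => by rw [dif_pos hx.2]
  refine ⟨_, ⟨fun x hx y hy => Subtype.ext ?_, fun x hx => ?_, fun v => ?_⟩, e⟩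
  · rw [Submodule.coe_add, e x hx, e y hy, e _ (mul_mem hx hy), h.add x hx.1 y hy.1]
  · rw [Subtype.ext_iff, e x hx]; exact h.ker x hx.1
  · obtain ⟨x, hx, ex⟩ := h.surj v
    exact ⟨x, ⟨hx, ex ▸ v.2⟩, Subtype.ext ((e x ⟨hx, ex ▸ v.2⟩).trans ex)⟩

theorem sq_eq_zero_of {K : Type*} [Field K] [Module K V] {N : Module.End K V} {n : ℕ}
    (hn : N ^ n = 0) (h : ∀ v, N (N (N v)) = 0 → N (N v) = 0) (v : V) : N (N v) = 0 := by
  have key : ∀ k v, N (N ((N ^ k) v)) = 0 → N (N v) = 0 := fun k => by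
    induction k with
    | zero => exact fun v e => e
    | succ k ih => exact fun v e => h v (ih (N v) (by rwa [pow_succ] at e))
  exact key n v (by simp [hn])

variable {S Q E : Subgroup Ω} [Finite S] [Finite V] {z : Ω} {π : Ω → V}
  {B : LinearMap.BilinForm (ZMod p) V} {F : FusionSystem S}

namespace Su

variable (h : Su p F Q E z π B) {θ : MulAut E} (hθ : θ ∈ F.autGroup E)
  (hw : afn θ z ∉ zpowers z) (hwQ : afn θ z ∉ Q)
include h hθ hw hwQ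

theorem b_eq {x : Ω} (hx : x ∈ E) : ∃ k : ZMod p, ∃ q ∈ Q ⊓ E, zp (afn θ z) k * q = x := by
  have hwE := Fus2.afn_mem θ h.zE
  obtain ⟨k, q, hq, rfl⟩ := h.exists_eq (h.leS hwE) hwQ (h.leS hx)
  exact ⟨k, q, ⟨hq, by simpa using mul_mem (inv_mem (zpow_mem hwE k)) hx⟩, by
    rw [zp_intCast (h.afn_pow θ)]⟩

theorem b_comm {x y : Ω} (hx : x ∈ E) (hy : y ∈ E) : Commute x y ∧ x ^ p = 1 := by
  have key : ∀ x ∈ E, ∀ y ∈ E, ⁅x, y⁆ ∈ zpowers z ∧ x ^ p ∈ zpowers z := fun x hx y hy => by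
    obtain ⟨k, q, hq, rfl⟩ := h.b_eq hθ hw hwQ hx
    obtain ⟨j, r, hr, rfl⟩ := h.b_eq hθ hw hwQ hy
    have c : ∀ (k : ZMod p), ∀ x ∈ E, Commute x (zp (afn θ z) k) := fun k x hx =>
      (h.commute_afn θ hx).zpow_right _
    rw [comm_mul_left' (c k _ (comm_mem_of_mem hq.2 hy)), (c k _ hy).symm.commutator_eq,
      comm_mul_right' (c j _ (comm_mem_of_mem hq.2 hr.2)), (c j _ hq.2).commutator_eq,
      (c k q hq.2).symm.mul_pow, pow_eq_one_of_mem_zpowers (h.afn_pow θ) (zp_mem_zpowers _ _)]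
    simpa using ⟨h.comm_mem hq.1 hr.1, h.powm q hq.1⟩
  have h₁ := key _ (Fus2.afn_mem θ⁻¹ hx) _ (Fus2.afn_mem θ⁻¹ hy)
  refine ⟨commutatorElement_eq_one_iff_commute.1 (h.eq_one hw (key x hx y hy).1 ?_),
    h.eq_one hw (key x hx y hy).2 ?_⟩
  · simpa [afn_comm θ (Fus2.afn_mem θ⁻¹ hx) (Fus2.afn_mem θ⁻¹ hy)] using h.afn_Z (α := θ) h₁.1
  · simpa [Ess.afn_pow θ (Fus2.afn_mem θ⁻¹ hx)] using h.afn_Z (α := θ) h₁.2

theorem b_norm {x : Ω} (hx : x ∈ Q) (e : dl (afn θ z) x ∈ E) : x⁻¹ ∈ normalizer (E : Set Ω) := by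
  haveI := finite_of_le h.leS
  refine mem_normalizer_fintype fun m hm => ?_
  obtain ⟨k, q, hq, rfl⟩ := h.b_eq hθ hw hwQ hm
  have h₁ : x⁻¹ * afn θ z * x⁻¹⁻¹ ∈ E := by
    simpa [dl, mul_assoc] using mul_mem e (Fus2.afn_mem θ h.zE)
  have h₂ : x⁻¹ * q * x⁻¹⁻¹ ∈ E := by
    rw [inv_inv, h.conj_eq hq.1 hx]; exact mul_mem hq.2 (zp_mem h.zE _)
  have := mul_mem (zp_mem h₁ k) h₂
  rwa [zp, conj_zpow, conj_mul] at this

variable (hB : ∀ α ∈ F.autGroup E, afn α z ∈ Q → afn α z ∈ zpowers z)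
  {N : Module.End (ZMod p) V} (hN : IsN Q π (afn θ z) N) (hK : ∀ g ∈ Q, N (π g) = 0 → g ∈ E)
include hN hK

theorem b_range {v : V} (hv : N v = 0) : ∃ u, N u = v :=
  h.mem_range (h.leS (Fus2.afn_mem θ h.zE)) hN fun u hu => by
    obtain ⟨x, hx, rfl⟩ := h.lq.surj u
    obtain ⟨y, hy, rfl⟩ := h.lq.surj v
    exact (h.commute_iff hx hy).1 (h.b_comm hθ hw hwQ (hK x hx hu) (hK y hy hv)).1

include hB

theorem exists_la : ∃ (W : Type u) (_ : AddCommGroup W) (_ : Module (ZMod p) W) (μ : Ω → W)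
    (a : LinearMap.ker (N * N) →ₗ[ZMod p] W) (χ : W →ₗ[ZMod p] ZMod p), Lq E ⊥ μ ∧
    LA (B.compl₁₂ (N ∘ₗ Submodule.subtype _) (Submodule.subtype _)) a (μ (afn θ z)) (μ z) χ
      {L | ∃ α ∈ F.autGroup E, ∀ x ∈ E, L (μ x) = μ (afn α x)} ∧ (∀ u, a u = 0 ↔ N u = 0) ∧
    ∀ e ∈ Q ⊓ E, ∃ u, ∃ s : ZMod p, μ e = a u + s • μ z := by
  haveI := finite_of_le h.leS
  have hwE := Fus2.afn_mem θ h.zE
  have hwS := h.leS hwE
  have two := h.two_ne
  obtain ⟨W, _, _, _, μ, hμ⟩ := exists_lq (p := p) (Q := E) (Z := ⊥)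
    (fun x hx y hy => (h.b_comm hθ hw hwQ hx hy).1.commutator_eq)
    fun x hx => (h.b_comm hθ hw hwQ hx hx).2
  have inj : ∀ x ∈ E, ∀ y ∈ E, μ x = μ y → x = y := fun x hx y hy e =>
    inv_mul_eq_one.1 ((hμ.eq_iff hx hy).1 e)
  obtain ⟨π', hπ', eπ⟩ := h.lq.sub (LinearMap.ker (N * N))
  have hdl : ∀ x ∈ h.lq.pre (LinearMap.ker (N * N)), dl (afn θ z) x ∈ E := fun x hx =>
    hK _ (h.dl_mem hwS hx.1) (by rw [hN x hx.1]; exact hx.2)
  have symm : ∀ u v : LinearMap.ker (N * N), B (N u) v = B (N v) u := fun u v => by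
    linear_combination h.inv_form hwS hN u v - h.orth_of_ker hwS hN (v := N v) v.2 u -
      h.skew (N v) u
  obtain ⟨a, ha⟩ := hπ'.exists_lin (p := p)
    (g := fun x => μ (dl (afn θ z) x) - (B (N (π x)) (π x) / 2) • μ z) (fun x hx y hy => by
      have := symm (π' x) (π' y)
      rw [eπ x hx, eπ y hy] at this
      rw [dl_mul, h.conj_eq (h.dl_mem hwS hx.1) hy.1,
        hμ.add _ (mul_mem (hdl x hx) (zp_mem h.zE _)) _ (hdl y hy),
        hμ.add _ (hdl x hx) _ (zp_mem h.zE _), hμ.zp h.zE, hN x hx.1, h.lq.add x hx.1 y hy.1]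
      simp only [map_add, LinearMap.add_apply, ← this]
      match_scalars <;> field_simp <;> ring)
    fun x hx hxZ => by
      rw [dl_eq_one.2 (h.cenZ hxZ hwS).symm, (h.lq.ker x hx.1).2 hxZ, hμ.one]; simp
  obtain ⟨χ, χ₀, χ₁⟩ := LinearMap.exists_extend_of_notMem
    (0 : hμ.im (p := p) (Q ⊓ E) →ₗ[ZMod p] ZMod p)
    (fun e => hwQ (hμ.mem_of_mem_im bot_le hwE e).1) 1
  have χ₂ : ∀ e ∈ Q ⊓ E, χ (μ e) = 0 := fun e he =>
    LinearMap.congr_fun χ₀ ⟨μ e, hμ.mem_im_of he.2 he⟩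
  have a₀ : ∀ u : LinearMap.ker (N * N), N u = 0 → a u = 0 := fun u hu => by
    obtain ⟨x, hx, rfl⟩ := hπ'.surj u
    rw [eπ x hx] at hu
    rw [ha x hx, dl_eq_one.2 (h.commute_afn θ (hK x hx.1 hu)).symm, hμ.one, hu]; simp
  have a₁ : ∀ u (s : ZMod p), a u = s • μ z → N u = 0 := fun u s e => by
    obtain ⟨x, hx, rfl⟩ := hπ'.surj u
    rw [ha x hx, sub_eq_iff_eq_add, ← add_smul, ← hμ.zp h.zE] at e
    rw [eπ x hx, ← h.dl_mem_Z hwS hN hx.1, inj _ (hdl x hx) _ (zp_mem h.zE _) e]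
    exact zp_mem_zpowers _ _
  have a₂ : ∀ e ∈ Q ⊓ E, ∃ u, ∃ s : ZMod p, μ e = a u + s • μ z := fun e he => by
    have h0 := h.N_eq_zero hwS hN he.1 (h.commute_afn θ he.2).symm
    obtain ⟨u, hu⟩ := h.b_range hθ hw hwQ hN hK h0
    obtain ⟨x, hx, rfl⟩ := h.lq.surj u
    have hx' : x ∈ h.lq.pre (LinearMap.ker (N * N)) := ⟨hx, by simpa [hu] using h0⟩
    obtain ⟨k, hk⟩ := (mem_zpowers_iff_zp h.pow).1
      ((h.lq.eq_iff (h.dl_mem hwS hx) he.1).1 ((hN x hx).trans hu))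
    refine ⟨π' x, B (N (π x)) (π x) / 2 + k, ?_⟩
    rw [ha x hx', inv_mul_eq_iff_eq_mul.1 hk, hμ.add _ (hdl x hx') _ (zp_mem h.zE _), hμ.zp h.zE]
    module
  have hL : ∀ α : MulAut E, ∃ L : Module.End (ZMod p) W, ∀ x ∈ E, L (μ x) = μ (afn α x) :=
    fun α => hμ.exists_lin (fun x hx y hy => by
      rw [afn_mul' α hx hy, hμ.add _ (Fus2.afn_mem α hx) _ (Fus2.afn_mem α hy)])
      fun x hx e => by rw [mem_bot.1 e, (Fus2.homOn_afn α).map_one, hμ.one]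
  refine ⟨W, _, _, μ, a, χ, hμ, ⟨two, exists_rep h.odd, symm, χ₁, χ₂ z ⟨h.mem, h.zE⟩, fun u => ?_,
    fun u s e => a₀ u (a₁ u s e), fun u e v => by simp [a₁ u 0 (by simpa using e)], fun m => ?_,
    ?_, ?_, fun u => ?_, ?_, ?_⟩, fun u => ⟨fun e => a₁ u 0 (by simpa using e), a₀ u⟩, a₂⟩
  · obtain ⟨x, hx, rfl⟩ := hπ'.surj u
    simp [ha x hx, χ₂ z ⟨h.mem, h.zE⟩, χ₂ _ ⟨h.dl_mem hwS hx.1, hdl x hx⟩]
  · obtain ⟨x, hx, rfl⟩ := hμ.surj m
    obtain ⟨k, q, hq, rfl⟩ := h.b_eq hθ hw hwQ hx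
    obtain ⟨u, s, e⟩ := a₂ q hq
    exact ⟨k, u, s, by rw [hμ.add _ (zp_mem hwE k) _ hq.2, hμ.zp hwE, e, add_assoc]⟩
  · rintro β ⟨α, hα, e⟩ γ ⟨α', hα', e'⟩
    exact ⟨_, mul_mem hα hα', fun x hx => by
      rw [Module.End.mul_apply, e' x hx, e _ (Fus2.afn_mem _ hx), Fus2.afn_mul]⟩
  · rintro β ⟨α, hα, e⟩
    obtain ⟨γ, e'⟩ := hL α⁻¹
    refine ⟨γ, ⟨_, inv_mem hα, e'⟩, fun m => ?_, fun m => ?_⟩ <;> obtain ⟨x, hx, rfl⟩ := hμ.surj m
    · rw [e' x hx, e _ (Fus2.afn_mem _ hx), Fus2.afn_afn_inv]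
    · rw [e x hx, e' _ (Fus2.afn_mem _ hx), Fus2.afn_inv_afn]
  · obtain ⟨x, hx, rfl⟩ := hπ'.surj u
    have hn := h.b_norm hθ hw hwQ hx.1 (hdl x hx)
    obtain ⟨t, ht⟩ := hL (conjAut E x⁻¹ hn)
    have t₂ : t (μ z) = μ z := by
      rw [ht z h.zE, Fus2.afn_conjAut _ h.zE, h.conj_Z (inv_mem (h.le hx.1)) (mem_zpowers z)]
    refine ⟨t, ⟨_, conjAut_mem_autGroup h.leS (inv_mem (h.le hx.1)) hn, ht⟩, ?_, t₂, fun v => ?_⟩
    · rw [ht _ hwE, Fus2.afn_conjAut _ hwE, ha x hx,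
        show x⁻¹ * afn θ z * x⁻¹⁻¹ = dl (afn θ z) x * afn θ z by simp [dl, mul_assoc],
        hμ.add _ (hdl x hx) _ hwE]
      simp only [LinearMap.compl₁₂_apply, LinearMap.comp_apply, Submodule.subtype_apply, eπ x hx]
      abel
    · obtain ⟨y, hy, rfl⟩ := hπ'.surj v
      rw [ha y hy, map_sub, map_smul, t₂, ht _ (hdl y hy), Fus2.afn_conjAut _ (hdl y hy), inv_inv,
        h.conj_eq (h.dl_mem hwS hy.1) hx.1, hμ.add _ (hdl y hy) _ (zp_mem h.zE _), hμ.zp h.zE,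
        hN y hy.1]
      simp [eπ x hx, eπ y hy, sub_add_eq_add_sub]
  · obtain ⟨L, e⟩ := hL θ
    exact ⟨L, ⟨θ, hθ, e⟩, e z h.zE⟩
  · rintro β ⟨α, hα, e⟩ h0
    have hm := Fus2.afn_mem α h.zE
    obtain ⟨k, q, hq, eq⟩ := h.b_eq hθ hw hwQ hm
    rw [e z h.zE, ← eq, hμ.add _ (zp_mem hwE k) _ hq.2, hμ.zp hwE, map_add, map_smul, χ₁,
      χ₂ q hq] at h0
    obtain rfl : k = 0 := by simpa using h0
    obtain ⟨c, hc⟩ := (mem_zpowers_iff_zp h.pow).1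
      (hB α hα (by rw [← eq, zp_zero, one_mul]; exact hq.1))
    exact ⟨c, by rw [e z h.zE, hc, hμ.zp h.zE]⟩

theorem caseB2 : CSU p S := by
  have hwE := Fus2.afn_mem θ h.zE
  have hwS := h.leS hwE
  obtain ⟨W, _, _, μ, a, χ, hμ, hl, a₀, a₂⟩ := h.exists_la hθ hw hwQ hB hN hK
  have hsq : ∀ v, N (N v) = 0 := sq_eq_zero_of (h.N_pow hwS hN) fun v hv =>
    (a₀ ⟨N v, hv⟩).1 (hl.anis (h.refl _ _ (h.orth_of_ker hwS hN hv v)))
  have hr := N.finrank_range_add_finrank_ker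
  have hr' := Submodule.finrank_mono (show LinearMap.ker N ≤ LinearMap.range N from
    fun v hv => h.b_range hθ hw hwQ hN hK hv)
  have h4 := h.four
  have h2 : ∀ v, ∃ v', ∀ k : ZMod p, a v' ≠ k • a v := fun v => by
    by_contra! hc
    have := (Submodule.finrank_mono (show LinearMap.range N ≤ Submodule.span _ {N v} by
      rintro _ ⟨u, rfl⟩
      obtain ⟨k, hk⟩ := hc ⟨u, hsq u⟩
      have := (a₀ (⟨u, hsq u⟩ - k • v)).1 (by simp [hk])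
      exact Submodule.mem_span_singleton.2 ⟨k, .symm (by simpa [sub_eq_zero] using this)⟩)).trans
      (finrank_span_le_card _)
    simp at this
    omega
  obtain ⟨u, v, hu, hv, huv⟩ := hl.exists_pair h2
  have hd : finrank (ZMod p) V = 4 := by
    have := (Submodule.finrank_mono (show LinearMap.range N ≤
      Submodule.span _ (Set.range ![N u, N v]) by
      rintro _ ⟨x, rfl⟩
      obtain ⟨i, j, e⟩ := hl.span_two hu hv huv ⟨x, hsq x⟩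
      have := (a₀ (⟨x, hsq x⟩ - (i • u + j • v))).1 (by simp [e])
      exact (Submodule.mem_span_range_iff_exists_fun _).2 ⟨![i, j], .symm (by
        simpa [sub_eq_zero] using this)⟩)).trans (finrank_range_le_card _)
    simp at this
    omega
  have hdl : ∀ x ∈ Q, dl (afn θ z) x ∈ E := fun x hx =>
    hK _ (h.dl_mem hwS hx) (by rw [hN x hx, hsq])
  obtain ⟨β, ⟨α, hα, eα⟩, c, β₁, β₂⟩ := hl.exists_neg h2
  have α₁ : afn α z = zp z c := inv_mul_eq_one.1 ((hμ.eq_iff (Fus2.afn_mem α h.zE)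
    (zp_mem h.zE c)).1 (by rw [← eα z h.zE, β₁, hμ.zp h.zE]))
  have α₂ : ∀ e ∈ Q ⊓ E, e * afn α e ∈ zpowers z := fun e he => by
    obtain ⟨u, s, e₁⟩ := a₂ e he
    have hm := mul_mem he.2 (Fus2.afn_mem α he.2)
    rw [inv_mul_eq_one.1 ((hμ.eq_iff hm (zp_mem h.zE (s + s * c))).1 (by
      rw [hμ.add _ he.2 _ (Fus2.afn_mem α he.2), ← eα e he.2, e₁, hμ.zp h.zE, map_add, map_smul, β₁,
        β₂]; module))]
    exact zp_mem_zpowers _ _
  have α₃ : ∀ e ∈ Q ⊓ E, afn α e ∈ Q ⊓ E := fun e he =>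
    ⟨(Q.mul_mem_cancel_left he.1).1 (h.Z_le (α₂ e he)), Fus2.afn_mem α he.2⟩
  obtain ⟨f, hf, f₁, f₂⟩ := h.exists_ext ((h.sup_eq hwS hwQ).ge.trans (sup_le
      (zpowers_le.2 (le_normalizer hwE)) fun x hx =>
        inv_mem_iff.1 (h.b_norm hθ hw hwQ hx (hdl x hx)))) (le_inf h.Z_le h.ZE) inf_le_right
    (fun s hs x hx => h.dl_mem_Z_of hwS hwQ hx.1 (by
      rw [dl_eq_one.2 (h.commute_afn θ hx.2).symm]; exact one_mem _) hs) hα α₃
    (α₁ ▸ zp_mem_zpowers _ _)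
  have hfQ := h.inv_Q hf hwS hN (by omega)
  obtain ⟨A, hA, hAB⟩ := h.exists_map (hf.homOn.mono h.le) hfQ (f₁.trans α₁)
  have eA : ∀ k, N k = 0 → A k = -k := fun k hk => by
    obtain ⟨x, hx, rfl⟩ := h.lq.surj k
    have hx' : x ∈ Q ⊓ E := ⟨hx, hK x hx hk⟩
    rw [hA x hx, ← (h.lq.eq_iff (α₃ x hx').1 (hfQ x hx)).2 (f₂ x hx'), eq_neg_iff_add_eq_zero,
      add_comm, ← h.lq.add _ hx _ (α₃ x hx').1]
    exact (h.lq.ker _ (h.Z_le (α₂ x hx'))).2 (α₂ x hx')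
  have c0 : c ≠ 0 := fun e => h.ne ((afn_eq_one_iff α).1 (by rw [α₁, e, zp_zero]))
  obtain ⟨ρ, hρ⟩ := h.exists_rho
  have hexp := h.exp_of_rho hρ fun v => by
    obtain ⟨y, hy⟩ := h.mem_range hwS hN (v := A v + c • v) fun k hk => by
      have := hAB k v
      rw [eA k hk] at this
      simp only [map_add, map_smul, map_neg, LinearMap.neg_apply, smul_eq_mul] at this ⊢
      linear_combination -this
    obtain ⟨x, hx, rfl⟩ := h.lq.surj v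
    have e₁ := h.rho_N hρ hwS hN y
    rw [hy, map_add, map_smul, hA x hx, h.rho_map hρ (hf.homOn.mono h.le) hfQ (f₁.trans α₁) hx,
      smul_eq_mul] at e₁
    exact mul_left_cancel₀ (mul_ne_zero h.two_ne c0) (by linear_combination e₁)
  obtain ⟨y, hy, ey⟩ := h.lq.surj u
  obtain ⟨x, hx, ex⟩ := h.lq.surj v
  have q₁ : B (N u) u ≠ 0 := hl.q_ne hu
  have q₂ : B (N v) v ≠ 0 := hl.q_ne hv
  have q₃ : B (N u) v = 0 := huv
  have q₄ : B (N v) u = 0 := (hl.symm v u).trans huv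
  refine h.csu_of hd hexp hwS hwQ (h.afn_pow θ) hy hN hx (h.commute_afn θ (hdl y hy)).symm
    (h.commute_afn θ (hdl x hx)).symm (by rw [ey, h.skew]; exact neg_ne_zero.2 q₁) ?_
  rintro ⟨r, hr⟩
  rw [ey, ex, h.skew (N v) u, h.skew (N u) u, h.skew (N v) v, q₄] at hr
  have := hl.rad _ (hl.anis (u := r • u + B (N u) u • v) (by
    simp [q₃, q₄]; linear_combination (-B (N u) u) * hr)) v
  simp [q₁, q₂, q₃] at this

end Su

end Cfsg.Agent.XE
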