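import Cfsg.Agent.Lib.XE.SL4
import Cfsg.Prelude.Def_G2

/-!
Six elements of `G₂(p)`.
-/

set_option autoImplicit false
set_option linter.style.haveILetI false
set_option linter.unusedVariables false
set_option linter.unusedSectionVars false

namespace Cfsg.Agent.XE

open Subgroup Cfsg.Agent.Fus Cfsg.Agent.TwoGrp Cfsg.Agent.Ess Matrix Cfsg.Lie

/-- A short root element. -/
def gb : Matrix (Fin 8) (Fin 8) ℤ :=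
  !![1, 0, -1, 0, 0, 0, 0, 0; 0, 1, 0, 0, 0, 0, 1, 0; 0, 0, 1, 0, 0, 0, 0, 0;
    0, 0, 0, 1, -1, 0, 0, 0; 0, 0, 0, 0, 1, 0, 0, 0; 1, 0, -1, 0, 0, 1, 0, -1;
    0, 0, 0, 0, 0, 0, 1, 0; 0, 0, 1, 0, 0, 0, 0, 1]
/-- A long root element. -/
def gy : Matrix (Fin 8) (Fin 8) ℤ :=
  !![1, 0, 0, 0, 0, 0, 0, 0; 0, 1, 0, 0, 0, 0, 0, 0; 0, 0, 1, 1, 0, 0, 0, 0;
    0, 0, 0, 1, 0, 0, 0, 0; 0, 0, 0, 0, 1, 0, 0, 0; 0, 0, 0, 0, 0, 1, 0, 0;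
    0, 0, 0, 0, 0, -1, 1, 0; 0, 0, 0, 0, 0, 0, 0, 1]
/-- The first commutator. -/
def ga : Matrix (Fin 8) (Fin 8) ℤ :=
  !![1, 0, 0, -1, -1, 0, 0, 0; 1, 1, 1, 0, 0, -1, 0, -1; 0, 0, 1, 0, 1, 0, 0, 0;
    0, 0, 0, 1, 0, 0, 0, 0; 0, 0, 0, 0, 1, 0, 0, 0; 0, 0, 0, -1, -1, 1, 0, 0;
    1, 0, 1, -1, -1, 0, 1, -1; 0, 0, 0, 1, 1, 0, 0, 1]
/-- The second commutator. -/
def gc : Matrix (Fin 8) (Fin 8) ℤ :=
  !![1, 0, 0, 0, -2, 0, 0, 0; 2, 1, 6, -3, -4, 0, 0, -2; 0, 0, 1, 0, 0, 0, 0, 0;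
    0, 0, 0, 1, 0, 0, 0, 0; 0, 0, 0, 0, 1, 0, 0, 0; 0, 0, 0, -2, -6, 1, 0, 0;
    0, 0, 2, 0, 3, 0, 1, 0; 0, 0, 0, 0, 2, 0, 0, 1]
/-- The third commutator. -/
def gw : Matrix (Fin 8) (Fin 8) ℤ :=
  !![1, 0, 0, 0, 0, 0, 0, 0; 0, 1, 6, 0, 0, 0, 0, 0; 0, 0, 1, 0, 0, 0, 0, 0;
    0, 0, 0, 1, 0, 0, 0, 0; 0, 0, 0, 0, 1, 0, 0, 0; 0, 0, 0, 0, -6, 1, 0, 0;
    0, 0, 0, 0, 0, 0, 1, 0; 0, 0, 0, 0, 0, 0, 0, 1]
/-- The highest root element. -/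
def gz : Matrix (Fin 8) (Fin 8) ℤ :=
  !![1, 0, 0, 0, 0, 0, 0, 0; 0, 1, 0, -1, 0, 0, 0, 0; 0, 0, 1, 0, 0, 0, 0, 0;
    0, 0, 0, 1, 0, 0, 0, 0; 0, 0, 0, 0, 1, 0, 0, 0; 0, 0, 0, 0, 0, 1, 0, 0;
    0, 0, 0, 0, 1, 0, 1, 0; 0, 0, 0, 0, 0, 0, 0, 1]

theorem g_nil : (gb - 1) ^ 3 = 0 ∧ (gy - 1) ^ 3 = 0 ∧ (ga - 1) ^ 3 = 0 ∧ (gc - 1) ^ 3 = 0 ∧
    (gw - 1) ^ 3 = 0 ∧ (gz - 1) ^ 3 = 0 := by
  simp only [pow_succ, pow_zero, one_mul]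
  decide +kernel

theorem g_rel : gz * gb = gb * gz ∧ gz * gy = gy * gz ∧ gz * ga = ga * gz ∧ gz * gc = gc * gz ∧
    gz * gw = gw * gz ∧ gb * gy = gy * ga * gb ∧ gb * ga = ga * gc * gb ∧
    gb * gc = gc * gw * gb ∧ gb * gw = gw * gb ∧ gy * ga = gz * (ga * gy) ∧
    gy * gc = gz ^ 6 * (gc * gy) ∧ gy * gw = gz ^ 6 * (gw * gy) ∧ gc * ga = gz ^ 6 * (ga * gc) ∧
    ga * gw = gw * ga ∧ gc * gw = gw * gc := by
  simp only [pow_succ, pow_zero, one_mul]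
  decide +kernel

variable {K : Type*} [Field K] {p : ℕ} [hp : Fact p.Prime] [CharP K p]

/-- Reduction of an integer matrix. -/
def red (K : Type*) [Field K] : Matrix (Fin 8) (Fin 8) ℤ →+* Matrix (Fin 8) (Fin 8) K :=
  (Int.castRingHom K).mapMatrix

theorem red_pow (h2 : p ≠ 2) {g : Matrix (Fin 8) (Fin 8) ℤ} (h : (g - 1) ^ 3 = 0) :
    red K g ^ p = 1 := by
  have h1 := sub_pow_char_of_commute p (Commute.one_right (red K g))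
  have h3 : (red K g - 1) ^ 3 = 0 := by simpa using congrArg (red K) h
  rw [pow_eq_zero_of_le (lt_of_le_of_ne hp.out.two_le h2.symm) h3, one_pow] at h1
  exact sub_eq_zero.1 h1.symm

/-- Reduction of a unipotent integer matrix, as an element of `GL₈`. -/
def redU (K : Type*) [Field K] {p : ℕ} [hp : Fact p.Prime] [CharP K p] (h2 : p ≠ 2)
    {g : Matrix (Fin 8) (Fin 8) ℤ} (h : (g - 1) ^ 3 = 0) : GL (Fin 8) K :=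
  Units.ofPowEqOne _ p (red_pow h2 h) hp.out.ne_zero

theorem coe_redU (h2 : p ≠ 2) {g : Matrix (Fin 8) (Fin 8) ℤ} (h : (g - 1) ^ 3 = 0) :
    (redU K h2 h : Matrix (Fin 8) (Fin 8) K) = red K g := rfl

theorem rg2_gl (h2 : p ≠ 2) : RG2 p (redU K h2 g_nil.1) (redU K h2 g_nil.2.1)
    (redU K h2 g_nil.2.2.1) (redU K h2 g_nil.2.2.2.1) (redU K h2 g_nil.2.2.2.2.1)
    (redU K h2 g_nil.2.2.2.2.2) := by
  obtain ⟨h₁, h₂, h₃, h₄, h₅, h₆, h₇, h₈, h₉, k₁, k₂, k₃, k₄, k₅, k₆⟩ := g_rel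
  refine ⟨Units.ext (red_pow h2 g_nil.1), Units.ext (red_pow h2 g_nil.2.1),
    Units.ext (red_pow h2 g_nil.2.2.1), Units.ext (red_pow h2 g_nil.2.2.2.1),
    Units.ext (red_pow h2 g_nil.2.2.2.2.1), Units.ext (red_pow h2 g_nil.2.2.2.2.2),
    ?_, ?_, ?_, ?_, ?_, ?_, ?_, ?_, ?_, ?_, ?_, ?_, ?_, ?_, ?_⟩ <;>
  refine Units.ext ?_ <;>
  simp only [Units.val_mul, Units.val_pow_eq_pow_val, coe_redU, ← map_mul, ← map_pow] <;>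
  congr 1

omit hp [CharP K p] in
theorem gb_mulVec (x : Fin 8 → K) : red K gb *ᵥ x =
    ![x 0 - x 2, x 1 + x 6, x 2, x 3 - x 4, x 4, x 0 - x 2 + x 5 - x 7, x 6, x 2 + x 7] := by
  ext i
  fin_cases i <;> simp [red, gb, mulVec, dotProduct, Fin.sum_univ_eight] <;> ring

omit hp [CharP K p] in
theorem gy_mulVec (x : Fin 8 → K) : red K gy *ᵥ x =
    ![x 0, x 1, x 2 + x 3, x 3, x 4, x 5, x 6 - x 5, x 7] := by
  ext i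
  fin_cases i <;> simp [red, gy, mulVec, dotProduct, Fin.sum_univ_eight] <;> ring

omit hp [CharP K p] in
theorem zornMul_eq (x y : Fin 8 → K) : zornMul x y =
    ![x 0 * y 0 + (x 1 * y 4 + x 2 * y 5 + x 3 * y 6),
      x 0 * y 1 + y 7 * x 1 - (x 5 * y 6 - x 6 * y 5),
      x 0 * y 2 + y 7 * x 2 - (x 6 * y 4 - x 4 * y 6),
      x 0 * y 3 + y 7 * x 3 - (x 4 * y 5 - x 5 * y 4),
      y 0 * x 4 + x 7 * y 4 + (x 2 * y 3 - x 3 * y 2),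
      y 0 * x 5 + x 7 * y 5 + (x 3 * y 1 - x 1 * y 3),
      y 0 * x 6 + x 7 * y 6 + (x 1 * y 2 - x 2 * y 1),
      x 4 * y 1 + x 5 * y 2 + x 6 * y 3 + x 7 * y 7] := by
  ext i
  fin_cases i <;> simp [zornMul, dot3, cross3]

theorem mem_G2_iff {g : GL (Fin 8) K} : g ∈ G2 K ↔ ∀ x y,
    (g : Matrix (Fin 8) (Fin 8) K) *ᵥ zornMul x y =
      zornMul ((g : Matrix (Fin 8) (Fin 8) K) *ᵥ x) ((g : Matrix (Fin 8) (Fin 8) K) *ᵥ y) :=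
  Iff.rfl

theorem gb_mem (h2 : p ≠ 2) : redU K h2 g_nil.1 ∈ G2 K := mem_G2_iff.2 fun x y => by
  simp only [coe_redU, gb_mulVec, zornMul_eq]
  ext i
  fin_cases i <;> simp <;> ring

theorem gy_mem (h2 : p ≠ 2) : redU K h2 g_nil.2.1 ∈ G2 K := mem_G2_iff.2 fun x y => by
  simp only [coe_redU, gy_mulVec, zornMul_eq]
  ext i
  fin_cases i <;> simp <;> ring

theorem mem_of_rel {G : Type*} [Group G] {H : Subgroup G} {b y a : G} (h : b * y = y * a * b)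
    (hb : b ∈ H) (hy : y ∈ H) : a ∈ H := by
  have : a = y⁻¹ * (b * y) * b⁻¹ := by rw [h]; group
  exact this ▸ mul_mem (mul_mem (inv_mem hy) (mul_mem hb hy)) (inv_mem hb)

theorem exists_rg2 (h2 : p ≠ 2) : ∃ b y a c w z : G2 K, RG2 p b y a c w z ∧ z ≠ 1 := by
  have h := rg2_gl (K := K) h2
  have hb := gb_mem (K := K) h2
  have hy := gy_mem (K := K) h2
  have ha := mem_of_rel h.b₁ hb hy
  have hc := mem_of_rel h.b₂ hb ha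
  have hw := mem_of_rel h.b₃ hb hc
  have hz : redU K h2 g_nil.2.2.2.2.2 ∈ G2 K := by
    rw [← mul_inv_eq_iff_eq_mul.2 h.ya]
    exact mul_mem (mul_mem hy ha) (inv_mem (mul_mem ha hy))
  refine ⟨⟨_, hb⟩, ⟨_, hy⟩, ⟨_, ha⟩, ⟨_, hc⟩, ⟨_, hw⟩, ⟨_, hz⟩,
    RG2.of_injective (G2 K).subtype (G2 K).subtype_injective h, fun e => ?_⟩
  have := congrArg (fun x : G2 K => (x.1 : Matrix (Fin 8) (Fin 8) K) 6 4) e
  simp [coe_redU, red, gz] at this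

end Cfsg.Agent.XE
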