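import Cfsg.Agent.Lib.XE.G2a

/-!
The order of a Sylow `p`-subgroup of `G₂(p)` is at most `p ^ 6`.
-/

set_option autoImplicit false
set_option linter.style.haveILetI false
set_option linter.unusedVariables false
set_option linter.unusedSectionVars false
set_option linter.unnecessarySeqFocus false

namespace Cfsg.Agent.XE

open Subgroup Cfsg.Agent.Fus Cfsg.Agent.TwoGrp Cfsg.Agent.Ess Matrix Cfsg.Lie Module
open Cfsg.Agent.Lie

section Flag

variable {K V H : Type*} [Field K] [AddCommGroup V] [Module K V] [Group H] [Finite H] {n : ℕ}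
  {b : Basis (Fin n) K V} {φ : H →* Module.End K V} {p : ℕ} [Fact p.Prime] [CharP K p]

theorem normalizer_le_Bor' (h0 : ∀ g, ∀ v ∈ F b 1, φ g v ∈ F b 1)
    (hr : ∀ i j : Fin n, 1 ≤ (i : ℕ) → (i : ℕ) + 1 = j →
      ∃ u ∈ Uni b φ, b.repr (φ u (b j)) i ≠ 0) :
    Subgroup.normalizer (Uni b φ : Set H) ≤ Bor b φ := fun g hg => by
  have key : ∀ k, 1 ≤ k → ∀ v, (∀ u ∈ Uni b φ, φ u v - v ∈ F b k) → v ∈ F b (k + 1) :=
    fun k hk v hv => by
    have : ∀ d, k + 1 ≤ d → v ∈ F b d → v ∈ F b (k + 1) := fun d hd => by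
      induction d, hd using Nat.le_induction with
      | base => exact id
      | succ d hd ih =>
        refine fun h => ih fun j hj => ?_
        rcases hj.eq_or_lt with rfl | e
        swap
        · exact h j e
        obtain ⟨u, hu, h1⟩ := hr ⟨j - 1, by omega⟩ j (by simp only; omega) (by simp only; omega)
        have h2 := hu (j - 1) _ (F_mono (by omega) (sub_mem_F h)) ⟨j - 1, by omega⟩ le_rfl
        have h3 := hv u hu ⟨j - 1, by omega⟩ (by simp only; omega)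
        have h4 := basis_mem_F (b := b) (i := j) (Nat.lt_succ_self _)
        have h5 : b.repr (b j) ⟨j - 1, by omega⟩ = 0 := by
          rw [b.repr_self, Finsupp.single_apply, if_neg]
          simp only [Fin.ext_iff]
          omega
        simp only [map_sub, map_smul, Finsupp.coe_sub, Finsupp.coe_smul, Pi.sub_apply,
          Pi.smul_apply, smul_eq_mul, h5] at h2 h3
        exact (mul_eq_zero.1 (by linear_combination h3 - h2)).resolve_right h1
    exact this (n + k + 1) (by omega) (mem_F_top (by omega) v)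
  refine mem_Bor.2 fun k => ?_
  induction k with
  | zero => exact fun v hv => by simp [eq_zero_of_mem_F hv]
  | succ k ih =>
    rcases Nat.eq_zero_or_pos k with rfl | hk
    · exact h0 g
    refine fun v hv => key k hk _ fun u hu => ?_
    have := ih _ ((inv_mem hg u).1 hu k v hv)
    rwa [map_sub, ← act_mul, inv_inv, show g * (g⁻¹ * u * g) = u * g by group, act_mul] at this

theorem isSylowIn_Uni' (hφ : Function.Injective φ) (h0 : ∀ g, ∀ v ∈ F b 1, φ g v ∈ F b 1)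
    (hr : ∀ i j : Fin n, 1 ≤ (i : ℕ) → (i : ℕ) + 1 = j →
      ∃ u ∈ Uni b φ, b.repr (φ u (b j)) i ≠ 0) : IsSylowIn p (Uni b φ) ⊤ :=
  isSylowIn_top_of_normalizer (isPGroup_Uni hφ) fun g hg ⟨k, hk⟩ =>
    mem_Uni_of_dg (normalizer_le_Bor' h0 hr hg) fun i => eq_one_of_pow_eq_one (p := p) (k := k) (by
      rw [← dg_pow (normalizer_le_Bor' h0 hr hg), hk, dg_one])

end Flag

variable {K : Type*} [Field K] {p : ℕ} [hp : Fact p.Prime] [CharP K p]

/-- Coordinates adapted to the flag. -/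
def g2L (K : Type*) [Field K] : (Fin 8 → K) ≃ₗ[K] (Fin 8 → K) where
  toFun v := ![v 7, v 1, v 6, v 5, v 0 - v 7, v 2, v 3, v 4]
  invFun c := ![c 0 + c 4, c 1, c 5, c 6, c 7, c 3, c 2, c 0]
  map_add' u v := by ext i; fin_cases i <;> simp <;> ring
  map_smul' c v := by ext i; fin_cases i <;> simp <;> ring
  left_inv v := by ext i; fin_cases i <;> simp
  right_inv v := by ext i; fin_cases i <;> simp

/-- The basis adapted to the flag. -/
noncomputable def g2B (K : Type*) [Field K] : Basis (Fin 8) K (Fin 8 → K) :=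
  Basis.ofEquivFun (g2L K)

omit hp [CharP K p] in
theorem g2B_repr (v : Fin 8 → K) (i : Fin 8) :
    (g2B K).repr v i = ![v 7, v 1, v 6, v 5, v 0 - v 7, v 2, v 3, v 4] i := rfl

omit hp [CharP K p] in
theorem g2B_apply (i : Fin 8) : g2B K i = ![![1, 0, 0, 0, 0, 0, 0, 1], ![0, 1, 0, 0, 0, 0, 0, 0],
    ![0, 0, 0, 0, 0, 0, 1, 0], ![0, 0, 0, 0, 0, 1, 0, 0], ![1, 0, 0, 0, 0, 0, 0, 0],
    ![0, 0, 1, 0, 0, 0, 0, 0], ![0, 0, 0, 1, 0, 0, 0, 0], ![0, 0, 0, 0, 1, 0, 0, 0]] i := by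
  rw [g2B, Basis.coe_ofEquivFun]
  ext j
  fin_cases i <;> fin_cases j <;> simp [g2L]

/-- The natural representation. -/
def g2φ (K : Type*) [Field K] : G2 K →* Module.End K (Fin 8 → K) :=
  Matrix.toLinAlgEquiv'.toMonoidHom.comp
    ((Units.coeHom (Matrix (Fin 8) (Fin 8) K)).comp (G2 K).subtype)

omit hp [CharP K p] in
theorem g2φ_apply (g : G2 K) (v : Fin 8 → K) :
    g2φ K g v = (g.1 : Matrix (Fin 8) (Fin 8) K) *ᵥ v := rfl

omit hp [CharP K p] in
theorem g2φ_mul (g : G2 K) (x y : Fin 8 → K) :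
    g2φ K g (zornMul x y) = zornMul (g2φ K g x) (g2φ K g y) := g.2 x y

omit hp [CharP K p] in
theorem g2φ_inj : Function.Injective (g2φ K) := fun g h e =>
  Subtype.ext (Units.ext (Matrix.toLin'.injective e))

omit hp [CharP K p] in
theorem g2φ_one (g : G2 K) : g2φ K g (g2B K 0) = g2B K 0 := by
  have h1 : ∀ x : Fin 8 → K, zornMul (g2B K 0) x = x ∧ zornMul x (g2B K 0) = x := fun x => by
    rw [g2B_apply, zornMul_eq, zornMul_eq]
    constructor <;> ext i <;> fin_cases i <;> simp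
  have := g2φ_mul g (g2B K 0) (g2φ K g⁻¹ (g2B K 0))
  rw [(h1 _).1, ← Module.End.mul_apply, ← map_mul, mul_inv_cancel, map_one,
    Module.End.one_apply, (h1 _).2] at this
  exact this.symm

theorem two_ne_zero' (h2 : p ≠ 2) : (2 : K) ≠ 0 := fun e =>
  h2 ((Nat.prime_dvd_prime_iff_eq hp.out Nat.prime_two).1
    ((CharP.cast_eq_zero_iff K p 2).1 (by simpa using e)))

variable [Finite K]

theorem isSylowIn_g2 (h2 : p ≠ 2) : IsSylowIn p (Uni (g2B K) (g2φ K)) ⊤ := by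
  have two : (2 : K) ≠ 0 := two_ne_zero' h2
  let b : G2 K := ⟨_, gb_mem h2⟩
  let y : G2 K := ⟨_, gy_mem h2⟩
  have eb : ∀ v, g2φ K b v = _ := gb_mulVec
  have ey : ∀ v, g2φ K y v = _ := gy_mulVec
  have hb : b ∈ Uni (g2B K) (g2φ K) := mem_Uni_of fun i j hj => by
    rw [eb, g2B_apply, g2B_repr]
    fin_cases i <;> fin_cases j <;> simp at hj ⊢
  have hy : y ∈ Uni (g2B K) (g2φ K) := mem_Uni_of fun i j hj => by
    rw [ey, g2B_apply, g2B_repr]
    fin_cases i <;> fin_cases j <;> simp at hj ⊢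
  refine isSylowIn_Uni' g2φ_inj (fun g => mem_stab_F fun i hi => ?_) fun i j hi hij => ?_
  · obtain rfl : i = 0 := Fin.ext (by omega)
    rw [g2φ_one]
    exact basis_mem_F hi
  · by_cases h : (i : ℕ) = 2 ∨ (i : ℕ) = 5
    · refine ⟨y, hy, ?_⟩
      rw [ey, g2B_apply, g2B_repr]
      fin_cases i <;> fin_cases j <;> simp at h hi hij ⊢
    · refine ⟨b, hb, ?_⟩
      rw [eb, g2B_apply, g2B_repr]
      fin_cases i <;> fin_cases j <;> simp at h hi hij ⊢
      exact fun e => two (by linear_combination -e)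

omit hp [CharP K p] in
theorem uni_coord {u : G2 K} (hu : u ∈ Uni (g2B K) (g2φ K)) (i j : Fin 8) (h : (i : ℕ) ≤ j) :
    (g2B K).repr (g2φ K u (g2B K i)) j = (g2B K).repr (g2B K i) j := by
  have := hu i _ (basis_mem_F (Nat.lt_succ_self i)) j h
  rwa [map_sub, Finsupp.sub_apply, sub_eq_zero] at this

omit hp [CharP K p] in
theorem eq_one_of_uni {u : G2 K} (hu : u ∈ Uni (g2B K) (g2φ K))
    (h₁ : g2φ K u (g2B K 7) = g2B K 7) (h₂ : g2φ K u (g2B K 6) 2 = 0) : u = 1 := by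
  have m : ∀ i j k : Fin 8, ∀ c : K, zornMul (g2B K i) (g2B K j) = c • g2B K k →
      zornMul (g2φ K u (g2B K i)) (g2φ K u (g2B K j)) = c • g2φ K u (g2B K k) :=
    fun i j k c e => by rw [← g2φ_mul, e, map_smul]
  have t : ∀ i j k : Fin 8, ∀ c : K, (∀ l, zornMul (g2B K i) (g2B K j) l = c * g2B K k l) →
      zornMul (g2B K i) (g2B K j) = c • g2B K k := fun i j k c h => funext h
  have t₁ := t 1 1 0 0 fun l => by fin_cases l <;> simp [g2B_apply, zornMul_eq]
  have t₂ := t 1 7 4 1 fun l => by fin_cases l <;> simp [g2B_apply, zornMul_eq]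
  have t₃ := t 4 6 6 1 fun l => by fin_cases l <;> simp [g2B_apply, zornMul_eq]
  have t₄ := t 6 4 0 0 fun l => by fin_cases l <;> simp [g2B_apply, zornMul_eq]
  have t₅ := t 6 7 0 0 fun l => by fin_cases l <;> simp [g2B_apply, zornMul_eq]
  have t₆ := t 4 5 5 1 fun l => by fin_cases l <;> simp [g2B_apply, zornMul_eq]
  have t₇ := t 5 4 0 0 fun l => by fin_cases l <;> simp [g2B_apply, zornMul_eq]
  have t₈ := t 5 7 0 0 fun l => by fin_cases l <;> simp [g2B_apply, zornMul_eq]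
  have t₉ := t 1 5 2 1 fun l => by fin_cases l <;> simp [g2B_apply, zornMul_eq]
  have t₀ := t 6 1 3 1 fun l => by fin_cases l <;> simp [g2B_apply, zornMul_eq]
  have e₁ : g2φ K u (g2B K 1) = g2B K 1 := by
    have c := fun j => uni_coord hu 1 j
    have c₁ := c 1 le_rfl
    have c₂ := c 2 (by decide)
    have c₃ := c 3 (by decide)
    have c₄ := c 4 (by decide)
    have c₅ := c 5 (by decide)
    have c₆ := c 6 (by decide)
    have c₇ := c 7 (by decide)
    have s := congrFun (m _ _ _ _ t₁) 7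
    generalize g2φ K u (g2B K 1) = x at *
    simp [g2B_repr, g2B_apply, zornMul_eq, sub_eq_zero] at c₁ c₂ c₃ c₄ c₅ c₆ c₇ s
    simp [c₂, c₃, c₇] at s
    ext i
    fin_cases i <;> simp [g2B_apply, *]
  have e₄ : g2φ K u (g2B K 4) = g2B K 4 := by
    have := m _ _ _ _ t₂
    rwa [e₁, h₁, t₂, one_smul, one_smul, eq_comm] at this
  have key : ∀ x : Fin 8 → K, zornMul (g2B K 4) x = (1 : K) • x → zornMul x (g2B K 4) = 0 →
      zornMul x (g2B K 7) = 0 → x = ![0, 0, x 2, x 3, 0, 0, 0, 0] := fun x a₁ a₂ a₃ => by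
    have b₁ := congrFun a₁ 4
    have b₂ := congrFun a₁ 5
    have b₃ := congrFun a₁ 6
    have b₄ := congrFun a₁ 7
    have b₅ := congrFun a₂ 0
    have b₆ := congrFun a₃ 0
    simp [g2B_apply, zornMul_eq] at b₁ b₂ b₃ b₄ b₅ b₆
    ext i
    fin_cases i <;> simp [← b₁, ← b₂, ← b₃, ← b₄, b₅, b₆]
  have e₆ : g2φ K u (g2B K 6) = g2B K 6 := by
    have := key (g2φ K u (g2B K 6)) (by simpa only [e₄] using m _ _ _ _ t₃)
      (by simpa only [e₄, zero_smul] using m _ _ _ _ t₄)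
      (by simpa only [h₁, zero_smul] using m _ _ _ _ t₅)
    have c := uni_coord hu 6 6 le_rfl
    rw [g2B_repr, g2B_repr] at c
    rw [this, h₂, show g2φ K u (g2B K 6) 3 = _ from c]
    simp [g2B_apply]
  have e₅ : g2φ K u (g2B K 5) = g2B K 5 := by
    have := key (g2φ K u (g2B K 5)) (by simpa only [e₄] using m _ _ _ _ t₆)
      (by simpa only [e₄, zero_smul] using m _ _ _ _ t₇)
      (by simpa only [h₁, zero_smul] using m _ _ _ _ t₈)
    have c := uni_coord hu 5 5 le_rfl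
    have c' := uni_coord hu 5 6 (by decide)
    rw [g2B_repr, g2B_repr] at c c'
    rw [this, show g2φ K u (g2B K 5) 2 = _ from c, show g2φ K u (g2B K 5) 3 = _ from c']
    simp [g2B_apply]
  have e₂ : g2φ K u (g2B K 2) = g2B K 2 := by
    have := m _ _ _ _ t₉
    rwa [e₁, e₅, t₉, one_smul, one_smul, eq_comm] at this
  have e₃ : g2φ K u (g2B K 3) = g2B K 3 := by
    have := m _ _ _ _ t₀
    rwa [e₁, e₆, t₀, one_smul, one_smul, eq_comm] at this
  refine g2φ_inj ((g2B K).ext fun i => ?_)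
  rw [map_one, Module.End.one_apply]
  fin_cases i
  exacts [g2φ_one u, e₁, e₂, e₃, e₄, e₅, e₆, h₁]

theorem card_sylow_g2 (h2 : p ≠ 2) (P : Sylow p (G2 (ZMod p))) : Nat.card P ≤ p ^ 6 := by
  have two : (2 : ZMod p) ≠ 0 := two_ne_zero' h2
  obtain ⟨U, hU⟩ := isSylowIn_top_iff.1 (isSylowIn_g2 (K := ZMod p) h2)
  refine card_sylow_le (U := U) ?_ P
  set B := g2B (ZMod p) with hB
  set φ := g2φ (ZMod p) with hφ
  refine (Nat.card_le_card_of_injective (fun u : U => (φ u (B 7) 0, φ u (B 7) 2, φ u (B 7) 3,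
    φ u (B 7) 5, φ u (B 7) 6, φ u (B 6) 2)) fun u w q => ?_).trans
    (by simp [pow_succ, mul_assoc])
  simp only [Prod.mk.injEq] at q
  obtain ⟨q₀, q₂, q₃, q₅, q₆, q⟩ := q
  have t : zornMul (B 7) (B 7) = 0 := by
    ext l; fin_cases l <;> simp [hB, g2B_apply, zornMul_eq]
  have key : ∀ u : U, φ u (B 7) 4 = 1 ∧ φ u (B 7) 7 = -φ u (B 7) 0 ∧ φ u (B 7) 1 =
      -(φ u (B 7) 0 * φ u (B 7) 0 + φ u (B 7) 2 * φ u (B 7) 5 + φ u (B 7) 3 * φ u (B 7) 6) :=
    fun u => by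
    have c := uni_coord (hU.le u.2) 7 7 le_rfl
    have s := g2φ_mul u.1 (B 7) (B 7)
    rw [t, map_zero] at s
    have s₀ := congrFun s 0
    have s₄ := congrFun s 4
    rw [← hB, ← hφ] at c
    rw [← hφ] at s₀ s₄
    generalize φ u (B 7) = x at *
    simp [hB, g2B_repr, g2B_apply, zornMul_eq] at c s₀ s₄
    rw [c] at s₀ s₄
    exact ⟨c, by linear_combination -s₄, by linear_combination -s₀⟩
  have e₇ : φ u (B 7) = φ w (B 7) := by
    obtain ⟨a₁, a₂, a₃⟩ := key u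
    obtain ⟨b₁, b₂, b₃⟩ := key w
    ext i
    fin_cases i
    exacts [q₀, by simp [a₃, b₃, q₀, q₂, q₃, q₅, q₆], q₂, q₃, a₁.trans b₁.symm, q₅, q₆,
      by simp [a₂, b₂, q₀]]
  have hv : (w⁻¹ * u).1 ∈ Uni B φ := hU.le (w⁻¹ * u).2
  have h₇ : φ (w⁻¹ * u).1 (B 7) = B 7 := by rw [coe_mul, act_mul, e₇, coe_inv, act_inv]
  refine (inv_mul_eq_one.1 (Subtype.ext (eq_one_of_uni hv h₇ ?_))).symm
  have h₆ := hv 6 _ (basis_mem_F (i := 6) (by decide))
  have h₅ := hU.le w.2 5 _ h₆ 5 le_rfl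
  change B.repr (φ w (φ (w⁻¹ * u).1 (B 6) - B 6) - (φ (w⁻¹ * u).1 (B 6) - B 6)) 5 = 0 at h₅
  rw [map_sub (φ w), coe_mul, act_mul, coe_inv, act_inv', ← act_mul, hB, g2B_repr] at h₅
  have h₄ : B 6 2 = 0 := by simp [hB, g2B_apply]
  simp [← hB, q, h₄] at h₅
  simpa [hφ, hB] using h₅

end Cfsg.Agent.XE
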