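import Cfsg.Agent.Lib.XE.Rel
import Cfsg.Agent.Lib.Lie.SpSU

/-!
The Sylow `p`-subgroups of `SL₄(p)` and `SU₄(p)`.
-/

set_option autoImplicit false
set_option linter.style.haveILetI false
set_option linter.unusedVariables false
set_option linter.unusedSectionVars false

namespace Cfsg.Agent.XE

open Subgroup Cfsg.Agent.Fus Cfsg.Agent.TwoGrp Cfsg.Agent.Ess Matrix
open scoped MatrixGroups

variable {K : Type*} [Field K] {p : ℕ} [hp : Fact p.Prime]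

/-- The unitriangular matrices in `SL₄`. -/
def u4 (a b c d e f : K) : SL(4, K) :=
  ⟨!![1, a, b, c; 0, 1, d, e; 0, 0, 1, f; 0, 0, 0, 1], by
    rw [det_of_isUpperTriangular]
    · simp [Fin.prod_univ_four]
    · intro i j hij
      fin_cases i <;> fin_cases j <;> simp at hij ⊢⟩

theorem coe_u4 (a b c d e f : K) :
    (u4 a b c d e f).1 = !![1, a, b, c; 0, 1, d, e; 0, 0, 1, f; 0, 0, 0, 1] := rfl

theorem u4_mul (a b c d e f a' b' c' d' e' f' : K) :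
    u4 a b c d e f * u4 a' b' c' d' e' f' = u4 (a + a') (b + b' + a * d')
      (c + c' + a * e' + b * f') (d + d') (e + e' + d * f') (f + f') :=
  Subtype.ext (by
    show (u4 a b c d e f).1 * (u4 a' b' c' d' e' f').1 = _
    rw [coe_u4, coe_u4, coe_u4]
    ext i j
    fin_cases i <;> fin_cases j <;> simp [Matrix.mul_apply, Fin.sum_univ_four] <;> ring)

theorem u4_zero : u4 (0 : K) 0 0 0 0 0 = 1 := Subtype.ext (by
  rw [coe_u4]
  ext i j
  fin_cases i <;> fin_cases j <;> simp)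

theorem u4_congr {a b c d e f a' b' c' d' e' f' : K} (h₁ : a = a') (h₂ : b = b') (h₃ : c = c')
    (h₄ : d = d') (h₅ : e = e') (h₆ : f = f') : u4 a b c d e f = u4 a' b' c' d' e' f' := by
  subst h₁ h₂ h₃ h₄ h₅ h₆; rfl

theorem u4_pow (a b c e f : K) (n : ℕ) : u4 a b c 0 e f ^ n =
    u4 (n * a) (n * b) (n * c + n.choose 2 * (a * e + b * f)) 0 (n * e) (n * f) := by
  induction n with
  | zero => simp [u4_zero]
  | succ n ih =>
    rw [pow_succ, ih, u4_mul, Nat.choose_succ_succ' n 1]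
    apply u4_congr <;> simp <;> ring

theorem u4_pow' (d : K) (n : ℕ) : u4 0 0 0 d 0 0 ^ n = u4 0 0 0 (n * d) 0 0 := by
  induction n with
  | zero => simp [u4_zero]
  | succ n ih =>
    rw [pow_succ, ih, u4_mul]
    apply u4_congr <;> simp [add_mul]

variable [CharP K p]

theorem u4_pow_p (h2 : p ≠ 2) (a b c e f : K) : u4 a b c 0 e f ^ p = 1 := by
  have : ((p.choose 2 : ℕ) : K) = 0 := (CharP.cast_eq_zero_iff K p _).2
    (hp.out.dvd_choose_self two_ne_zero (lt_of_le_of_ne hp.out.two_le h2.symm))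
  simp [u4_pow, this, u4_zero]

theorem u4_pow_p' (d : K) : u4 0 0 0 d 0 0 ^ p = 1 := by simp [u4_pow', u4_zero]

theorem zp_u4 (ι : ZMod p →+* K) (c : K) (k : ZMod p) :
    zp (u4 0 0 c 0 0 0) k = u4 0 0 (ι k * c) 0 0 0 := by
  rw [zp_val, u4_pow]
  conv_rhs => rw [← ZMod.natCast_zmod_val k, map_natCast]
  simp

theorem exists_sylow_u4 [Finite K] {H : Type*} [Group H] [Finite H] (ψ : H →* SL(4, K))
    (hψ : Function.Injective ψ) {a b c d e f : K} (ha : a ≠ 0) (hd : d ≠ 0) (hf : f ≠ 0) {g : H}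
    (hg : ψ g = u4 a b c d e f) :
    ∃ U : Sylow p H, ∀ x ∈ U, ∃ a b c d e f, ψ x = u4 a b c d e f := by
  let φ : H →* Module.End K (Fin 4 → K) :=
    Matrix.toLinAlgEquiv'.toMonoidHom.comp
      (((Units.coeHom (Matrix (Fin 4) (Fin 4) K)).comp Matrix.SpecialLinearGroup.toGL).comp ψ)
  have hφ : ∀ g, φ g = Matrix.toLin' (ψ g).1 := fun _ => rfl
  have hu : g ∈ Lie.Uni (Pi.basisFun K (Fin 4)) φ :=
    Lie.mem_Uni_of fun i j hj => by
      fin_cases i <;> fin_cases j <;> simp [hφ, hg, coe_u4] at hj ⊢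
  obtain ⟨U, hU⟩ := isSylowIn_top_iff.1 (Lie.isSylowIn_Uni (p := p) (b := Pi.basisFun K (Fin 4))
    (φ := φ) (fun g h e => hψ (Subtype.ext (Matrix.toLin'.injective e))) fun i j hij =>
      ⟨g, hu, by fin_cases i <;> fin_cases j <;> simp [hφ, hg, coe_u4, ha, hd, hf] at hij ⊢⟩)
  refine ⟨U, fun x hx => ⟨(ψ x).1 0 1, (ψ x).1 0 2, (ψ x).1 0 3, (ψ x).1 1 2, (ψ x).1 1 3,
    (ψ x).1 2 3, Subtype.ext ?_⟩⟩
  have := fun (i j : Fin 4) (hj : (i : ℕ) ≤ j) =>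
    hU.le hx i _ (Lie.basis_mem_F (Nat.lt_succ_self i)) j hj
  have h₀ := this 0 0 le_rfl
  have h₁ := this 0 1 (by decide)
  have h₂ := this 0 2 (by decide)
  have h₃ := this 0 3 (by decide)
  have h₄ := this 1 1 le_rfl
  have h₅ := this 1 2 (by decide)
  have h₆ := this 1 3 (by decide)
  have h₇ := this 2 2 le_rfl
  have h₈ := this 2 3 (by decide)
  have h₉ := this 3 3 le_rfl
  simp [hφ, sub_eq_zero] at h₀ h₁ h₂ h₃ h₄ h₅ h₆ h₇ h₈ h₉
  ext i j
  fin_cases i <;> fin_cases j <;> simp [coe_u4, *]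

theorem card_sylow_le {H : Type*} [Group H] [Finite H] {n : ℕ} {U : Sylow p H}
    (h : Nat.card U ≤ n) (P : Sylow p H) : Nat.card P ≤ n :=
  (Nat.card_congr (P.equiv U).toEquiv).trans_le h

theorem card_sylow_sl4 (P : Sylow p SL(4, ZMod p)) : Nat.card P ≤ p ^ 6 := by
  obtain ⟨U, hU⟩ := exists_sylow_u4 (p := p) (MonoidHom.id SL(4, ZMod p)) Function.injective_id
    (b := 0) (c := 0) (e := 0) one_ne_zero one_ne_zero one_ne_zero rfl
  refine card_sylow_le (U := U) ?_ P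
  choose a b c d e f h using fun u : U => hU u u.2
  refine (Nat.card_le_card_of_injective (fun u : U => (a u, b u, c u, d u, e u, f u))
    fun u w e => ?_).trans (by simp [pow_succ, mul_assoc])
  simp only [Prod.mk.injEq] at e
  exact Subtype.ext ((h u).trans ((u4_congr e.1 e.2.1 e.2.2.1 e.2.2.2.1 e.2.2.2.2.1
    e.2.2.2.2.2).trans (h w).symm))

theorem u4_ne_one {c : K} (hc : c ≠ 0) : u4 0 0 c 0 0 0 ≠ 1 := fun e =>
  hc (by simpa [coe_u4] using congrArg (fun x : SL(4, K) => x.1 0 3) e)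

theorem exists_r22_sl4 (h2 : p ≠ 2) (j k : ZMod p) {l : ZMod p} (hl : l ≠ 0) :
    ∃ b y c a w z : SL(4, ZMod p), R22 p j k l 0 b y c a w z ∧ z ≠ 1 := by
  have two := two_ne_zero_of_ne_two h2
  refine ⟨u4 0 0 0 1 0 0, u4 1 (j / l) 0 0 0 (k / (2 * l)), u4 0 0 0 0 0 1,
    u4 0 (-1) (-(k / (2 * l))) 0 (k / (2 * l)) 0, u4 0 0 0 0 1 0, u4 0 0 l⁻¹ 0 0 0,
    ⟨u4_pow_p' _, u4_pow_p h2 .., u4_pow_p h2 .., u4_pow_p h2 .., u4_pow_p h2 ..,
      u4_pow_p h2 .., ?_, ?_, ?_, ?_, ?_, ?_, ?_, ?_, ?_, ?_, ?_, ?_, ?_, ?_, ?_⟩,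
    u4_ne_one (inv_ne_zero hl)⟩ <;>
  simp only [Commute, SemiconjBy, zp_u4 (RingHom.id _), u4_mul, RingHom.id_apply] <;>
  apply u4_congr <;> field_simp <;> ring

section Unitary

variable {σ : K →+* K}

/-- The hermitian form with an antidiagonal matrix. -/
def hJ (σ : K →+* K) (u v : Fin 4 → K) : K :=
  u 0 * σ (v 3) + u 1 * σ (v 2) + u 2 * σ (v 1) + u 3 * σ (v 0)

theorem hJ_u4 (hσ : ∀ x, σ (σ x) = x) {a b c d e f : K} (h₁ : f = -σ a) (h₂ : σ d = -d)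
    (h₃ : e = -σ b - d * σ a) (h₄ : σ c = -c - f * σ e - e * σ f) (u v : Fin 4 → K) :
    hJ σ ((u4 a b c d e f).1 *ᵥ u) ((u4 a b c d e f).1 *ᵥ v) = hJ σ u v := by
  subst h₁ h₃
  simp only [hJ, coe_u4, mulVec, dotProduct, Fin.sum_univ_four]
  simp [h₄, h₂, hσ]
  ring

theorem of_hJ_u4 (hσ : ∀ x, σ (σ x) = x) {a b c d e f : K}
    (h : ∀ u v, hJ σ ((u4 a b c d e f).1 *ᵥ u) ((u4 a b c d e f).1 *ᵥ v) = hJ σ u v) :
    f = -σ a ∧ σ d = -d ∧ e = -σ b - d * σ a ∧ σ c = -c - f * σ e - e * σ f := by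
  have h₁ := h (Pi.single 3 1) (Pi.single 1 1)
  have h₂ := h (Pi.single 2 1) (Pi.single 2 1)
  have h₃ := h (Pi.single 3 1) (Pi.single 2 1)
  have h₄ := h (Pi.single 3 1) (Pi.single 3 1)
  simp [hJ, coe_u4] at h₁ h₂ h₃ h₄
  refine ⟨by linear_combination h₁, by linear_combination h₂, ?_, by linear_combination h₄⟩
  linear_combination h₃ - σ d * h₁ + σ a * h₂

theorem exists_su4 [Finite K] (h2 : p ≠ 2) (hσ : ∀ x, σ x = x ^ p) (hσσ : ∀ x, σ (σ x) = x)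
    {ε : K} (hε : ε ≠ 0) (hε' : σ ε = -ε) : ∃ ψ : SU 4 K p →* SL(4, K), Function.Injective ψ ∧
      ∀ M : SL(4, K), M ∈ ψ.range ↔ ∀ u v, hJ σ (M.1 *ᵥ u) (M.1 *ᵥ v) = hJ σ u v := by
  have two : (2 : K) ≠ 0 := fun e => h2 ((Nat.prime_dvd_prime_iff_eq hp.out Nat.prime_two).1
    ((CharP.cast_eq_zero_iff K p 2).1 (by simpa using e)))
  obtain ⟨α, hα⟩ := Mat.exists_norm_eq two hε hε' (d := -1) (by simp)
  have hα0 : α ≠ 0 := by rintro rfl; simp at hα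
  let P : Matrix (Fin 4) (Fin 4) K :=
    !![1, 0, 0, 1 / 2; 0, 1, 1 / 2, 0; 0, α, -α / 2, 0; α, 0, 0, -α / 2]
  let P' : Matrix (Fin 4) (Fin 4) K :=
    !![1 / 2, 0, 0, 1 / (2 * α); 0, 1 / 2, 1 / (2 * α), 0; 0, 1, -1 / α, 0; 1, 0, 0, -1 / α]
  have h₁ : P * P' = 1 := by
    ext i j
    fin_cases i <;> fin_cases j <;> simp [P, P', Matrix.mul_apply, Fin.sum_univ_four] <;>
      field_simp <;> ring
  have h₂ : P' * P = 1 := mul_eq_one_comm.1 h₁
  have h₃ : ∀ u v, hermForm 4 K p (P *ᵥ u) (P *ᵥ v) = hJ σ u v := fun u v => by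
    have s2 : σ 2 = 2 := map_ofNat σ 2
    simp only [hermForm, ← hσ, hJ, P, mulVec, dotProduct, Fin.sum_univ_four]
    simp [s2]
    field_simp
    linear_combination (4 * u 0 * σ (v 0) + 4 * u 1 * σ (v 1) - 2 * u 0 * σ (v 3) -
      2 * u 1 * σ (v 2) - 2 * u 2 * σ (v 1) - 2 * u 3 * σ (v 0) + u 2 * σ (v 2) +
      u 3 * σ (v 3)) * hα
  have hd : ∀ (A B : Matrix (Fin 4) (Fin 4) K), A * B = 1 → ∀ g : SL(4, K),
      (A * g.1 * B).det = 1 := fun A B h g => by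
    rw [det_mul, det_mul, g.2, mul_one, ← det_mul, h, det_one]
  let ψ : SU 4 K p →* SL(4, K) := MonoidHom.mk' (fun g => ⟨P' * g.1.1 * P, hd _ _ h₂ _⟩)
    fun g h => Subtype.ext (by
      show P' * (g.1.1 * h.1.1) * P = P' * g.1.1 * P * (P' * h.1.1 * P)
      simp only [Matrix.mul_assoc]
      rw [← Matrix.mul_assoc P, h₁, Matrix.one_mul])
  have hψ : ∀ g, (ψ g).1 = P' * g.1.1 * P := fun _ => rfl
  refine ⟨ψ, fun g h e => Subtype.ext (Subtype.ext ?_), fun M => ⟨?_, fun h => ⟨⟨⟨P * M.1 * P',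
    hd _ _ h₁ _⟩, fun u v => ?_⟩, Subtype.ext ?_⟩⟩⟩
  · have := congrArg (fun x : SL(4, K) => P * x.1 * P') e
    simpa only [hψ, Matrix.mul_assoc, h₁, Matrix.mul_one, ← Matrix.mul_assoc P P',
      Matrix.one_mul] using this
  · rintro ⟨g, rfl⟩ u v
    rw [← h₃, ← h₃, hψ, mulVec_mulVec, mulVec_mulVec, ← Matrix.mul_assoc, ← Matrix.mul_assoc, h₁,
      Matrix.one_mul, ← mulVec_mulVec, ← mulVec_mulVec]
    exact g.2 _ _
  · show hermForm 4 K p ((P * M.1 * P') *ᵥ u) ((P * M.1 * P') *ᵥ v) = _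
    rw [← mulVec_mulVec, ← mulVec_mulVec, ← mulVec_mulVec, ← mulVec_mulVec, h₃, h, ← h₃,
      mulVec_mulVec, mulVec_mulVec, h₁, one_mulVec, one_mulVec]
  · show P' * (P * M.1 * P') * P = M.1
    simp only [Matrix.mul_assoc, h₂, Matrix.mul_one, ← Matrix.mul_assoc P' P, Matrix.one_mul]

variable [Finite K] (h2 : p ≠ 2) (hσ : ∀ x, σ x = x ^ p) (hσσ : ∀ x, σ (σ x) = x)
  (ι : ZMod p →+* K) {ε : K} (hε : ε ≠ 0) (hε' : σ ε = -ε)
include h2 hσ hσσ hε hε'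

theorem card_sylow_su4 (hK : Nat.card K = p ^ 2) (hs : ∀ x, σ x = -x → ∃ t, x = ι t * ε)
    (P : Sylow p (SU 4 K p)) : Nat.card P ≤ p ^ 6 := by
  have two : (2 : K) ≠ 0 := fun e => h2 ((Nat.prime_dvd_prime_iff_eq hp.out Nat.prime_two).1
    ((CharP.cast_eq_zero_iff K p 2).1 (by simpa using e)))
  have s2 : σ 2 = 2 := map_ofNat σ 2
  obtain ⟨ψ, hψ, hr⟩ := exists_su4 h2 hσ hσσ hε hε'
  obtain ⟨g, hg⟩ := (hr (u4 1 0 (-ε / 2) ε (-ε) (-1))).2 (hJ_u4 hσσ (by simp) hε' (by simp)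
    (by simp [hε', s2]; field_simp))
  obtain ⟨U, hU⟩ := exists_sylow_u4 (p := p) ψ hψ one_ne_zero hε (by simp) hg
  refine card_sylow_le (U := U) ?_ P
  choose a b c d e f h using fun u : U => hU u u.2
  have h' := fun u : U => of_hJ_u4 hσσ (h u ▸ (hr _).1 ⟨u, rfl⟩)
  choose s hs' using fun u : U => hs _ (h' u).2.1
  choose t ht using fun u : U => hs (c u - σ (c u)) (by rw [map_sub, hσσ, neg_sub])
  refine (Nat.card_le_card_of_injective (fun u : U => (a u, b u, s u, t u))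
    fun u w q => ?_).trans (by simp [hK]; ring_nf; rfl)
  simp only [Prod.mk.injEq] at q
  obtain ⟨q₁, q₂, q₃, q₄⟩ := q
  have q₅ : d u = d w := by rw [hs', hs', q₃]
  have q₆ : f u = f w := by rw [(h' u).1, (h' w).1, q₁]
  have q₇ : e u = e w := by rw [(h' u).2.2.1, (h' w).2.2.1, q₁, q₂, q₅]
  have q₈ : c u = c w := by
    have k₁ := (h' u).2.2.2
    have k₂ := (h' w).2.2.2
    have k₃ := ht u
    have k₄ := ht w
    rw [q₆, q₇] at k₁
    rw [q₄] at k₃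
    exact mul_left_cancel₀ two (by linear_combination k₃ - k₄ + k₁ - k₂)
  exact Subtype.ext (hψ ((h u).trans ((u4_congr q₁ q₂ q₈ q₅ q₇ q₆).trans (h w).symm)))

theorem exists_r22_su4 (j : ZMod p) {k l m : ZMod p} (hk : k ≠ 0)
    (hd : ε * ε = ι (l ^ 2 - k * m)) :
    ∃ b y c a w z : SU 4 K p, R22 p j k l m b y c a w z ∧ z ≠ 1 := by
  have two : (2 : K) ≠ 0 := fun e => h2 ((Nat.prime_dvd_prime_iff_eq hp.out Nat.prime_two).1
    ((CharP.cast_eq_zero_iff K p 2).1 (by simpa using e)))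
  have s2 : σ 2 = 2 := map_ofNat σ 2
  have hι : ∀ t, σ (ι t) = ι t := fun t => by rw [hσ, ← map_pow, ZMod.pow_card]
  have hk' : ι k ≠ 0 := (map_ne_zero ι).2 hk
  simp only [map_sub, map_pow, map_mul] at hd
  obtain ⟨ψ, hψ, hr⟩ := exists_su4 h2 hσ hσσ hε hε'
  obtain ⟨b, hb⟩ := (hr (u4 0 0 0 ε 0 0)).2 (hJ_u4 hσσ (by simp) hε' (by simp) (by simp))
  obtain ⟨y, hy⟩ := (hr (u4 1 (-ι j) (ι j) 0 (ι j) (-1))).2
    (hJ_u4 hσσ (by simp) (by simp) (by simp [hι]) (by simp [hι]))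
  obtain ⟨c, hc⟩ := (hr (u4 ((ι l + ε) / ι k) 0 0 0 0 (-((ι l - ε) / ι k)))).2
    (hJ_u4 hσσ (by simp [hι, hε', sub_eq_add_neg]) (by simp) (by simp) (by simp))
  obtain ⟨a, ha⟩ := (hr (u4 0 (-ε) ε 0 (-ε) 0)).2
    (hJ_u4 hσσ (by simp) (by simp) (by simp [hε']) (by simp [hε']))
  obtain ⟨w, hw⟩ := (hr (u4 0 (-((ι l + ε) / ι k * ε)) (ε * (ι m / ι k)) 0
    (-((ι l - ε) / ι k * ε)) 0)).2
    (hJ_u4 hσσ (by simp) (by simp) (by simp [hε', hι, sub_eq_add_neg]) (by simp [hε', hι]))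
  obtain ⟨z, hz⟩ := (hr (u4 0 0 (-2 * ε / ι k) 0 0 0)).2
    (hJ_u4 hσσ (by simp) (by simp) (by simp) (by simp [hε', hι, s2, neg_div]))
  refine ⟨b, y, c, a, w, z, R22.of_injective ψ hψ ?_, fun e => u4_ne_one
    (c := -2 * ε / ι k) (by simp [two, hε, hk']) (by rw [← hz, e, map_one])⟩
  rw [hb, hy, hc, ha, hw, hz]
  refine ⟨u4_pow_p' _, u4_pow_p h2 .., u4_pow_p h2 .., u4_pow_p h2 .., u4_pow_p h2 ..,
      u4_pow_p h2 .., ?_, ?_, ?_, ?_, ?_, ?_, ?_, ?_, ?_, ?_, ?_, ?_, ?_, ?_, ?_⟩ <;>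
  simp only [Commute, SemiconjBy, zp_u4 ι, u4_mul] <;>
  apply u4_congr <;> (try field_simp) <;>
  first | ring1 | linear_combination (-ε) * hd | linear_combination (2 * ε) * hd

end Unitary

theorem exists_su4_data (h2 : p ≠ 2) (j : ZMod p) {k l m : ZMod p} (hk : k ≠ 0)
    (hd : ¬ IsSquare (l ^ 2 - k * m)) : ∃ (K : Type) (_ : Field K) (_ : Fintype K),
      Fintype.card K = p ^ 2 ∧ (∀ P : Sylow p (SU 4 K p), Nat.card P ≤ p ^ 6) ∧
      ∃ b y c a w z : SU 4 K p, R22 p j k l m b y c a w z ∧ z ≠ 1 := by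
  set d := l ^ 2 - k * m with hdd
  haveI : Fact (∀ r : ZMod p, r ^ 2 ≠ d + 0 * r) := ⟨fun r e => hd ⟨r, by rw [← sq, e]; simp⟩⟩
  let K := QuadraticAlgebra (ZMod p) d 0
  haveI : Fintype K := Fintype.ofEquiv _ (QuadraticAlgebra.equivProd d 0).symm
  have hK : Nat.card K = p ^ 2 := by
    rw [Nat.card_congr (QuadraticAlgebra.equivProd d 0)]; simp [sq]
  let ι : ZMod p →+* K := algebraMap _ _
  haveI : CharP K p := charP_of_injective_ringHom ι.injective p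
  let ε : K := QuadraticAlgebra.omega
  have hε : ε ≠ 0 := fun e => by simpa [ε] using congrArg QuadraticAlgebra.im e
  have hεε : ε * ε = ι d := by ext <;> simp [ε, ι, K]
  have hd0 : d ≠ 0 := fun e => hd (e ▸ IsSquare.zero)
  have hodd := hp.out.odd_of_ne_two h2
  have hε' : frobenius K p ε = -ε := by
    have e₁ : d ^ (p / 2) = -1 := (ZMod.pow_div_two_eq_neg_one_or_one p hd0).resolve_left
      fun e => hd ((ZMod.euler_criterion p hd0).2 e)
    have e₂ : p = 2 * (p / 2) + 1 := (Nat.two_mul_div_two_add_one_of_odd hodd).symm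
    rw [frobenius_def, (congrArg (ε ^ ·) e₂ :), pow_succ, pow_mul, sq, hεε, ← map_pow, e₁,
      map_neg, map_one, neg_one_mul]
  have hι : ∀ t, frobenius K p (ι t) = ι t := fun t => by
    rw [frobenius_def, ← map_pow, ZMod.pow_card]
  have hx : ∀ x : K, x = ι x.re + ι x.im * ε := fun x => by ext <;> simp [ε, ι, K]
  have hσσ : ∀ x, frobenius K p (frobenius K p x) = x := fun x => by
    conv_lhs => rw [hx x]
    rw [map_add, map_mul, hι, hι, hε', map_add, map_mul, hι, hι, map_neg, hε', neg_neg]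
    exact (hx x).symm
  refine ⟨K, inferInstance, inferInstance, by rw [← Nat.card_eq_fintype_card, hK],
    card_sylow_su4 h2 (frobenius_def p) hσσ ι hε hε' hK fun x e => ⟨x.im, ?_⟩,
    exists_r22_su4 h2 (frobenius_def p) hσσ ι hε hε' j hk hεε⟩
  have two : (2 : K) ≠ 0 := by
    rw [← map_ofNat ι 2]; exact (map_ne_zero ι).2 (two_ne_zero_of_ne_two h2)
  rw [hx x] at e
  simp only [map_add, map_mul, hι, hε'] at e
  have : ι x.re = 0 := mul_left_cancel₀ two (by linear_combination e)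
  conv_lhs => rw [hx x, this, zero_add]

end Cfsg.Agent.XE
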