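import Cfsg.Agent.Lib.XE.Base
import Cfsg.Agent.Lib.XE.SL4
import Cfsg.Agent.Lib.XE.G2b

/-!
Identifying the groups of order `p ^ 6`.
-/

set_option autoImplicit false
set_option linter.style.haveILetI false
set_option linter.unusedVariables false
set_option linter.unusedSectionVars false

namespace Cfsg.Agent.XE

open Subgroup Cfsg.Agent.Fus Cfsg.Agent.TwoGrp Cfsg.Agent.Ess Module
open Cfsg.Agent.Fus2 (HomOn)
open scoped commutatorElement

universe u

variable {G : Type u} [Group G] {p : ℕ} [hp : Fact p.Prime]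

/-- A Sylow subgroup of `SL₄(p)`. -/
def CSL (p : ℕ) [Fact p.Prime] (S : Type u) [Group S] : Prop :=
  ∃ P : Sylow p (Matrix.SpecialLinearGroup (Fin 4) (ZMod p)),
    Nonempty (S ≃* (P : Subgroup (Matrix.SpecialLinearGroup (Fin 4) (ZMod p))))

/-- A Sylow subgroup of `SU₄(p)`. -/
def CSU (p : ℕ) [Fact p.Prime] (S : Type u) [Group S] : Prop :=
  ∃ (K : Type) (_ : Field K) (_ : Fintype K), Fintype.card K = p ^ 2 ∧
    ∃ P : Sylow p (SU 4 K p), Nonempty (S ≃* (P : Subgroup (SU 4 K p)))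

/-- A Sylow subgroup of `G₂(p)`. -/
def CG2 (p : ℕ) [Fact p.Prime] (S : Type u) [Group S] : Prop :=
  5 ≤ p ∧ ∃ P : Sylow p (Lie.G2 (ZMod p)), Nonempty (S ≃* (P : Subgroup (Lie.G2 (ZMod p))))

theorem exists_coords {K V : Type*} [Field K] [AddCommGroup V] [Module K V] [Finite V]
    (hd : finrank K V = 4) {v₁ v₂ v₃ v₄ : V} (hli : ∀ a b c d : K,
      a • v₁ + b • v₂ + c • v₃ + d • v₄ = 0 → a = 0 ∧ b = 0 ∧ c = 0 ∧ d = 0) (v : V) :
    ∃ a b c d : K, v = a • v₁ + b • v₂ + c • v₃ + d • v₄ := by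
  have h₁ : LinearIndependent K ![v₁, v₂, v₃, v₄] := Fintype.linearIndependent_iff.2 fun g hg i => by
    obtain ⟨a, b, c, d⟩ := hli (g 0) (g 1) (g 2) (g 3) (by simpa [Fin.sum_univ_four] using hg)
    fin_cases i <;> assumption
  have h₂ := h₁.span_eq_top_of_card_eq_finrank' (by simp [hd])
  obtain ⟨g, hg⟩ := (Submodule.mem_span_range_iff_exists_fun K).1 (h₂.ge (Submodule.mem_top (x := v)))
  exact ⟨g 0, g 1, g 2, g 3, by simpa [Fin.sum_univ_four] using hg.symm⟩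

variable {V : Type*} [AddCommGroup V] [Module (ZMod p) V]

namespace Xs

variable {S Q : Subgroup G} [Finite S] [Finite V] {z : G} {π : G → V}
  {B : LinearMap.BilinForm (ZMod p) V} (h : Xs p S Q z π B)
include h

theorem two_ne : (2 : ZMod p) ≠ 0 := two_ne_zero_of_ne_two h.odd

theorem commute_of_eq {s x y : G} (hs : s ∈ S) (hx : x ∈ Q) (hy : y ∈ Q) (e : π x = π y)
    (hc : Commute s x) : Commute s y := by
  simpa using hc.mul_right (h.cenZ ((h.lq.eq_iff hx hy).1 e) hs).symm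

theorem change {c : ZMod p} (hc : c ≠ 0) : Xs p S Q (zp z c) π (c⁻¹ • B) := by
  have e : zpowers (zp z c) = zpowers z := le_antisymm (zpowers_le.2 (zp_mem_zpowers _ _))
    (zpowers_le.2 (mem_of_zp_mem h.pow hc (mem_zpowers _)))
  refine ⟨h.pg, h.odd, h.le, h.idx, pow_eq_one_of_mem_zpowers h.pow (zp_mem_zpowers _ _),
    fun e => hc ((zp_eq_one h.pow h.ne).1 e), zp_mem h.mem _,
    fun x hx => h.cenZ (zp_mem_zpowers _ _) hx, e ▸ h.cenS, e ▸ h.powm, e ▸ h.lq,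
    fun x hx y hy => ?_⟩
  rw [h.comm x hx y hy, zp_zp h.pow]
  simp [hc]

theorem gen_eq_top {b v₁ v₂ v₃ v₄ : G} (hb : b ∈ S) (hbQ : b ∉ Q) (h₁ : v₁ ∈ Q) (h₂ : v₂ ∈ Q)
    (h₃ : v₃ ∈ Q) (h₄ : v₄ ∈ Q)
    (hs : ∀ v, ∃ a b c d : ZMod p, v = a • π v₁ + b • π v₂ + c • π v₃ + d • π v₄) :
    zpowers (⟨b, hb⟩ : S) ⊔ gen5 ⟨v₁, h.le h₁⟩ ⟨v₂, h.le h₂⟩ ⟨v₃, h.le h₃⟩ ⟨v₄, h.le h₄⟩
      ⟨z, h.le h.mem⟩ = ⊤ := by
  refine map_injective S.subtype_injective ?_
  rw [map_gen, ← MonoidHom.range_eq_map, range_subtype]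
  refine le_antisymm (sup_le (zpowers_le.2 hb) (sup_le (zpowers_le.2 (h.le h₁)) (sup_le
    (zpowers_le.2 (h.le h₂)) (sup_le (zpowers_le.2 (h.le h₃)) (sup_le (zpowers_le.2 (h.le h₄))
    (zpowers_le.2 (h.le h.mem))))))) ((h.sup_eq hb hbQ).ge.trans (sup_le_sup_left
      (fun x hx => h.lq.mem_of_mem_im (p := p) (zpowers_le.2 mem_gen₅) hx ?_) _))
  obtain ⟨a, b, c, d, e⟩ := hs (π x)
  rw [e]
  exact add_mem (add_mem (add_mem (Submodule.smul_mem _ _ (h.lq.mem_im_of h₁ mem_gen₁))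
    (Submodule.smul_mem _ _ (h.lq.mem_im_of h₂ mem_gen₂)))
    (Submodule.smul_mem _ _ (h.lq.mem_im_of h₃ mem_gen₃)))
    (Submodule.smul_mem _ _ (h.lq.mem_im_of h₄ mem_gen₄))

theorem center_le : center S ≤ zpowers (⟨z, h.le h.mem⟩ : S) := fun x hx => by
  obtain ⟨k, hk⟩ := h.cenS x x.2 fun y hy =>
    congrArg Subtype.val (Subgroup.mem_center_iff.1 hx ⟨y, h.le hy⟩).symm
  exact ⟨k, Subtype.ext hk⟩

variable (hd : finrank (ZMod p) V = 4) (hexp : ∀ x ∈ Q, x ^ p = 1) {b y c : G} (hb : b ∈ S)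
  (hbQ : b ∉ Q) (hbp : b ^ p = 1) (hy : y ∈ Q) {N : Module.End (ZMod p) V} (hN : IsN Q π b N)
include hd hexp hb hbQ hbp hy hN

theorem equiv_of_r22 (hc : c ∈ Q) (ha : Commute b (dl b y)) (hw : Commute b (dl b c))
    (hdet : B (π y) (N (π c)) ^ 2 - B (π y) (N (π y)) * B (π c) (N (π c)) ≠ 0)
    {H : Type*} [Group H] [Finite H] (hH : ∀ P : Sylow p H, Nat.card P ≤ p ^ 6)
    {b' y' c' a' w' z' : H} (h' : R22 p (B (π y) (π c)) (B (π y) (N (π y))) (B (π y) (N (π c)))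
      (B (π c) (N (π c))) b' y' c' a' w' z') (hz : z' ≠ 1) :
    ∃ P : Sylow p H, Nonempty (S ≃* (P : Subgroup H)) := by
  have haQ := h.dl_mem hb hy
  have hwQ := h.dl_mem hb hc
  have ea := hN y hy
  have ew := hN c hc
  have na : N (N (π y)) = 0 := ea ▸ h.N_eq_zero hb hN haQ ha
  have nw : N (N (π c)) = 0 := ew ▸ h.N_eq_zero hb hN hwQ hw
  have aw : B (N (π y)) (N (π c)) = 0 := h.orth_of_ker hb hN nw _
  have wa : B (N (π c)) (N (π y)) = 0 := h.refl _ _ aw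
  have ca : B (π c) (N (π y)) = B (π y) (N (π c)) := by
    have := h.inv_form hb hN (π y) (π c)
    rw [h.skew]; linear_combination aw - this
  have R : R22 p (B (π y) (π c)) (B (π y) (N (π y))) (B (π y) (N (π c))) (B (π c) (N (π c)))
      b y c (dl b y) (dl b c) z :=
    ⟨hbp, hexp _ hy, hexp _ hc, hexp _ haQ, hexp _ hwQ, h.pow, h.cen _ hb, h.cen _ (h.le hy),
      h.cen _ (h.le hc), h.cen _ (h.le haQ), h.cen _ (h.le hwQ), mul_eq_dl _ _, mul_eq_dl _ _, ha,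
      hw, h.mul_eq hy hc, ea ▸ h.mul_eq hy haQ, ew ▸ h.mul_eq hy hwQ,
      ca ▸ ea ▸ h.mul_eq hc haQ, ew ▸ h.mul_eq hc hwQ,
      (h.commute_iff haQ hwQ).2 (by rw [ea, ew, aw])⟩
  refine (R22.of_injective S.subtype S.subtype_injective (b := ⟨b, hb⟩) (y := ⟨y, h.le hy⟩)
    (c := ⟨c, h.le hc⟩) (a := ⟨_, h.le haQ⟩) (w := ⟨_, h.le hwQ⟩) (z := ⟨z, h.le h.mem⟩)
    R).exists_equiv (by rw [h.card_S, hd]) hH h' (h.gen_eq_top hb hbQ hy hc haQ hwQ
      (exists_coords hd fun x₁ x₂ x₃ x₄ e => ?_)) h.center_le hz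
  rw [ea, ew] at e
  have e₁ := congrArg (fun v => B v (N (π y))) e
  have e₂ := congrArg (fun v => B v (N (π c))) e
  simp only [map_add, map_smul, LinearMap.add_apply, LinearMap.smul_apply, smul_eq_mul, h.alt,
    aw, wa, ca, map_zero, LinearMap.zero_apply] at e₁ e₂
  obtain rfl : x₁ = 0 := mul_left_cancel₀ hdet (by
    linear_combination B (π y) (N (π c)) * e₂ - B (π c) (N (π c)) * e₁)
  obtain rfl : x₂ = 0 := mul_left_cancel₀ hdet (by
    linear_combination B (π y) (N (π c)) * e₁ - B (π y) (N (π y)) * e₂)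
  have e₃ := congrArg (B (π y)) e
  have e₄ := congrArg (B (π c)) e
  simp only [map_add, map_smul, smul_eq_mul, ca, map_zero] at e₃ e₄
  exact ⟨rfl, rfl, mul_left_cancel₀ hdet (by
    linear_combination B (π y) (N (π c)) * e₄ - B (π c) (N (π c)) * e₃), mul_left_cancel₀ hdet (by
    linear_combination B (π y) (N (π c)) * e₃ - B (π y) (N (π y)) * e₄)⟩

theorem csl_of (hc : c ∈ Q) (ha : Commute b (dl b y)) (hw : Commute b (dl b c))
    (hl : B (π y) (N (π c)) ≠ 0) (hm : B (π c) (N (π c)) = 0) : CSL p S := by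
  obtain ⟨b', y', c', a', w', z', h', hz⟩ :=
    exists_r22_sl4 h.odd (B (π y) (π c)) (B (π y) (N (π y))) hl
  exact h.equiv_of_r22 hd hexp hb hbQ hbp hy hN hc ha hw (by simpa [hm] using hl) card_sylow_sl4
    (hm ▸ h') hz

theorem csu_of (hc : c ∈ Q) (ha : Commute b (dl b y)) (hw : Commute b (dl b c))
    (hk : B (π y) (N (π y)) ≠ 0)
    (hs : ¬ IsSquare (B (π y) (N (π c)) ^ 2 - B (π y) (N (π y)) * B (π c) (N (π c)))) :
    CSU p S := by
  obtain ⟨K, _, _, hK, hH, b', y', c', a', w', z', h', hz⟩ :=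
    exists_su4_data h.odd (B (π y) (π c)) hk hs
  exact ⟨K, _, _, hK, h.equiv_of_r22 hd hexp hb hbQ hbp hy hN hc ha hw
    (fun e => hs (e ▸ IsSquare.zero)) hH h' hz⟩

omit hexp hbQ hbp hy in
theorem chain_coords {η : V} (h3 : N (N (N η)) ≠ 0) (h4 : N (N (N (N η))) = 0) (v : V) :
    ∃ a b c d : ZMod p, v = a • η + b • N η + c • N (N η) + d • N (N (N η)) := by
  refine exists_coords hd (fun x₁ x₂ x₃ x₄ e => ?_) v
  have e₁ := congrArg N e
  have e₂ := congrArg N e₁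
  have e₃ := congrArg N e₂
  simp only [map_add, map_smul, h4, map_zero, smul_zero, add_zero] at e₁ e₂ e₃
  obtain rfl : x₁ = 0 := (smul_eq_zero.1 e₃).resolve_right h3
  obtain rfl : x₂ = 0 := (smul_eq_zero.1 (by simpa using e₂)).resolve_right h3
  obtain rfl : x₃ = 0 := (smul_eq_zero.1 (by simpa using e₁)).resolve_right h3
  exact ⟨rfl, rfl, rfl, (smul_eq_zero.1 (by simpa using e)).resolve_right h3⟩

theorem cg2_of_norm (h5 : 5 ≤ p) (h3 : N (N (N (π y))) ≠ 0)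
    (hw : Commute b (dl b (dl b (dl b y)))) (h1 : B (π y) (N (π y)) = 1)
    (h6 : B (π y) (N (N (N (π y)))) = 6) : CG2 p S := by
  have haQ := h.dl_mem hb hy
  have hcQ := h.dl_mem hb haQ
  have hwQ := h.dl_mem hb hcQ
  have ea := hN y hy
  have ec := (hN _ haQ).trans (congrArg N ea)
  have ew := (hN _ hcQ).trans (congrArg N ec)
  have h4 : N (N (N (N (π y)))) = 0 := ew ▸ h.N_eq_zero hb hN hwQ hw
  have b13 := h.orth_of_ker hb hN h4 (π y)
  have b23 := h.orth_of_ker hb hN h4 (N (π y))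
  have b21 : B (N (N (π y))) (N (π y)) = 6 := by
    rw [h.skew]; linear_combination h6 + b13 - h.inv_form hb hN (π y) (N (N (π y)))
  have b02 : B (π y) (N (N (π y))) = 6 := by
    linear_combination h.inv_form hb hN (π y) (N (π y)) - h.alt (N (π y)) + b21 -
      h.skew (N (N (π y))) (N (π y))
  have six : zp z (6 : ZMod p) = z ^ 6 := by simpa using zp_natCast h.pow 6
  have R : RG2 p b y (dl b y) (dl b (dl b y)) (dl b (dl b (dl b y))) z :=
    ⟨hbp, hexp _ hy, hexp _ haQ, hexp _ hcQ, hexp _ hwQ, h.pow, h.cen _ hb, h.cen _ (h.le hy),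
      h.cen _ (h.le haQ), h.cen _ (h.le hcQ), h.cen _ (h.le hwQ), mul_eq_dl _ _, mul_eq_dl _ _,
      mul_eq_dl _ _, hw, by rw [h.mul_eq hy haQ, ea, h1, zp_one h.pow],
      by rw [h.mul_eq hy hcQ, ec, b02, six], by rw [h.mul_eq hy hwQ, ew, h6, six],
      by rw [h.mul_eq hcQ haQ, ec, ea, b21, six], (h.commute_iff haQ hwQ).2 (by rw [ea, ew, b13]),
      (h.commute_iff hcQ hwQ).2 (by rw [ec, ew, b23])⟩
  obtain ⟨b', y', a', c', w', z', h', hz⟩ := exists_rg2 (K := ZMod p) h.odd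
  refine ⟨h5, (RG2.of_injective S.subtype S.subtype_injective (b := ⟨b, hb⟩) (y := ⟨y, h.le hy⟩)
    (a := ⟨_, h.le haQ⟩) (c := ⟨_, h.le hcQ⟩) (w := ⟨_, h.le hwQ⟩) (z := ⟨z, h.le h.mem⟩)
    R).exists_equiv (by rw [h.card_S, hd]) (card_sylow_g2 h.odd) h'
      (h.gen_eq_top hb hbQ hy haQ hcQ hwQ ?_) h.center_le hz⟩
  rw [ea, ec, ew]
  exact h.chain_coords hd hb hN h3 h4

theorem cg2_of (h3 : N (N (N (π y))) ≠ 0) (hw : Commute b (dl b (dl b (dl b y)))) : CG2 p S := by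
  have haQ := h.dl_mem hb hy
  have hcQ := h.dl_mem hb haQ
  have hwQ := h.dl_mem hb hcQ
  have ec := (hN _ haQ).trans (congrArg N (hN y hy))
  have ew := (hN _ hcQ).trans (congrArg N ec)
  have h4 : N (N (N (N (π y)))) = 0 := ew ▸ h.N_eq_zero hb hN hwQ hw
  have h5 : 5 ≤ p := by
    by_contra h5
    have h₃ : p ≤ 3 := by
      have : p ≠ 4 := by rintro rfl; exact absurd hp.out (by decide)
      omega
    exact h3 (congrArg (fun L => L (π y)) (pow_eq_zero_of_le h₃ (h.N_pow hb hN)))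
  have six : (6 : ZMod p) ≠ 0 := fun e => by
    have : p ∣ 2 * 3 := (ZMod.natCast_eq_zero_iff 6 p).1 (by simpa using e)
    rcases (Nat.Prime.dvd_mul hp.out).1 this with h | h <;> have := Nat.le_of_dvd (by decide) h <;>
      omega
  have b13 := h.orth_of_ker hb hN h4 (π y)
  have b23 := h.orth_of_ker hb hN h4 (N (π y))
  set l := B (π y) (N (N (N (π y)))) with hl
  have b21 : B (N (N (π y))) (N (π y)) = l := by
    rw [h.skew]; linear_combination b13 - h.inv_form hb hN (π y) (N (N (π y))) - hl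
  have l0 : l ≠ 0 := fun e => h3 (h.eq_zero fun v => h.refl _ _ (by
    obtain ⟨a, b, c, d, rfl⟩ := h.chain_coords hd hb hN h3 h4 v
    simp [← hl, e, b13, b23, h.alt]))
  have two := h.two_ne
  set k := (l / 6 - B (π y) (N (π y))) / (2 * l) with hk
  have hy' := mul_mem hy (zp_mem hcQ k)
  have e0 : π (y * zp (dl b (dl b y)) k) = π y + k • N (N (π y)) := by
    rw [h.lq.add _ hy _ (zp_mem hcQ k), h.lq.zp hcQ, ec]
  have e3 : N (N (N (π (y * zp (dl b (dl b y)) k)))) = N (N (N (π y))) := by simp [e0, h4]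
  have haQ' := h.dl_mem hb hy'
  have hcQ' := h.dl_mem hb haQ'
  refine (h.change (div_ne_zero l0 six)).cg2_of_norm hd hexp hb hbQ hbp hy' hN h5 (e3 ▸ h3)
    (h.commute_of_eq hb hwQ (h.dl_mem hb hcQ') (by
      rw [ew, hN _ hcQ', hN _ haQ', hN _ hy', e3]) hw) ?_ ?_
  · simp only [e0, map_add, map_smul, LinearMap.add_apply, LinearMap.smul_apply, smul_eq_mul,
      ← hl, b21, b23]
    rw [hk]; field_simp; ring
  · rw [e3, e0]
    simp only [map_add, map_smul, LinearMap.add_apply, LinearMap.smul_apply, smul_eq_mul,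
      ← hl, b23]
    field_simp; ring

end Xs

end Cfsg.Agent.XE
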