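import Cfsg.Agent.Lib.Ess.Five2

/-!
Polycyclic presentations of three groups of order `p ^ 6`.
-/

set_option autoImplicit false
set_option linter.style.haveILetI false
set_option linter.unusedVariables false

namespace Cfsg.Agent.XE

open Subgroup Cfsg.Agent.Fus Cfsg.Agent.TwoGrp Cfsg.Agent.Ess
open scoped commutatorElement

variable {G H : Type*} [Group G] [Group H] {p : ℕ}

theorem card_sup_le [hp : Fact p.Prime] {N : Subgroup G} {g : G}
    (hg : g ∈ normalizer (N : Set G)) (hgp : g ^ p ∈ N) :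
    Nat.card (zpowers g ⊔ N : Subgroup G) ≤ Nat.card N * p := by
  by_cases h : g ∈ N
  · rw [sup_eq_right.2 (zpowers_le.2 h)]
    exact Nat.le_mul_of_pos_right _ hp.out.pos
  · exact (card_zpowers_sup hg hgp h).le

theorem mem_normalizer_of_le [Finite G] {N : Subgroup G} {g : G}
    (h : N ≤ N.comap (MulAut.conj g).toMonoidHom) : g ∈ normalizer (N : Set G) :=
  mem_normalizer_fintype fun _ hx => h hx

theorem conj_mem_of_comm {N : Subgroup G} {g x : G} (hx : x ∈ N) (h : ⁅g, x⁆ ∈ N) :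
    x ∈ N.comap (MulAut.conj g).toMonoidHom := by
  have := N.mul_mem h hx
  rw [commutatorElement_def, inv_mul_cancel_right] at this
  exact this

/-- The subgroup generated by five elements. -/
abbrev gen5 (v₁ v₂ v₃ v₄ z : G) : Subgroup G :=
  zpowers v₁ ⊔ (zpowers v₂ ⊔ (zpowers v₃ ⊔ (zpowers v₄ ⊔ zpowers z)))

theorem mem_gen₁ {v₁ v₂ v₃ v₄ z : G} : v₁ ∈ gen5 v₁ v₂ v₃ v₄ z := mem_sup_left (mem_zpowers _)
theorem mem_gen₂ {v₁ v₂ v₃ v₄ z : G} : v₂ ∈ gen5 v₁ v₂ v₃ v₄ z :=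
  mem_sup_right (mem_sup_left (mem_zpowers _))
theorem mem_gen₃ {v₁ v₂ v₃ v₄ z : G} : v₃ ∈ gen5 v₁ v₂ v₃ v₄ z :=
  mem_sup_right (mem_sup_right (mem_sup_left (mem_zpowers _)))
theorem mem_gen₄ {v₁ v₂ v₃ v₄ z : G} : v₄ ∈ gen5 v₁ v₂ v₃ v₄ z :=
  mem_sup_right (mem_sup_right (mem_sup_right (mem_sup_left (mem_zpowers _))))
theorem mem_gen₅ {v₁ v₂ v₃ v₄ z : G} : z ∈ gen5 v₁ v₂ v₃ v₄ z :=
  mem_sup_right (mem_sup_right (mem_sup_right (mem_sup_right (mem_zpowers _))))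

theorem card_le_six [Finite G] [hp : Fact p.Prime] {b v₁ v₂ v₃ v₄ z : G} (pb : b ^ p = 1)
    (p₁ : v₁ ^ p = 1) (p₂ : v₂ ^ p = 1) (p₃ : v₃ ^ p = 1) (p₄ : v₄ ^ p = 1) (pz : z ^ p = 1)
    (zb : Commute z b) (z₁ : Commute z v₁) (z₂ : Commute z v₂) (z₃ : Commute z v₃)
    (z₄ : Commute z v₄) (c₁₂ : ⁅v₁, v₂⁆ ∈ zpowers z) (c₁₃ : ⁅v₁, v₃⁆ ∈ zpowers z)
    (c₁₄ : ⁅v₁, v₄⁆ ∈ zpowers z) (c₂₃ : ⁅v₂, v₃⁆ ∈ zpowers z) (c₂₄ : ⁅v₂, v₄⁆ ∈ zpowers z)
    (c₃₄ : ⁅v₃, v₄⁆ ∈ zpowers z) (b₁ : b * v₁ * b⁻¹ ∈ gen5 v₁ v₂ v₃ v₄ z)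
    (b₂ : b * v₂ * b⁻¹ ∈ gen5 v₁ v₂ v₃ v₄ z) (b₃ : b * v₃ * b⁻¹ ∈ gen5 v₁ v₂ v₃ v₄ z)
    (b₄ : b * v₄ * b⁻¹ ∈ gen5 v₁ v₂ v₃ v₄ z) :
    Nat.card (zpowers b ⊔ gen5 v₁ v₂ v₃ v₄ z : Subgroup G) ≤ p ^ 6 := by
  have cz : ∀ {v : G} {N : Subgroup G}, Commute z v → z ∈ N →
      z ∈ N.comap (MulAut.conj v).toMonoidHom := fun h hz =>
    conj_mem_of_comm hz (by rw [h.symm.commutator_eq]; exact one_mem _)
  have k₅ := card_zpowers_le hp.out.pos pz
  have k₄ := card_sup_le (N := zpowers z) (g := v₄)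
    (mem_normalizer_of_le (zpowers_le.2 (cz z₄ (mem_zpowers z)))) (p₄ ▸ one_mem _)
  have m₄ : zpowers z ≤ zpowers v₄ ⊔ zpowers z := le_sup_right
  have k₃ := card_sup_le (N := zpowers v₄ ⊔ zpowers z) (g := v₃)
    (mem_normalizer_of_le (sup_le
      (zpowers_le.2 (conj_mem_of_comm (mem_sup_left (mem_zpowers _)) (m₄ c₃₄)))
      (zpowers_le.2 (cz z₃ (m₄ (mem_zpowers z)))))) (p₃ ▸ one_mem _)
  have m₃ : zpowers z ≤ zpowers v₃ ⊔ (zpowers v₄ ⊔ zpowers z) := le_sup_of_le_right m₄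
  have k₂ := card_sup_le (N := zpowers v₃ ⊔ (zpowers v₄ ⊔ zpowers z)) (g := v₂)
    (mem_normalizer_of_le (sup_le
      (zpowers_le.2 (conj_mem_of_comm (mem_sup_left (mem_zpowers _)) (m₃ c₂₃))) (sup_le
      (zpowers_le.2 (conj_mem_of_comm (mem_sup_right (mem_sup_left (mem_zpowers _))) (m₃ c₂₄)))
      (zpowers_le.2 (cz z₂ (m₃ (mem_zpowers z))))))) (p₂ ▸ one_mem _)
  have m₂ : zpowers z ≤ zpowers v₂ ⊔ (zpowers v₃ ⊔ (zpowers v₄ ⊔ zpowers z)) :=
    le_sup_of_le_right m₃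
  have k₁ := card_sup_le (N := zpowers v₂ ⊔ (zpowers v₃ ⊔ (zpowers v₄ ⊔ zpowers z))) (g := v₁)
    (mem_normalizer_of_le (sup_le
      (zpowers_le.2 (conj_mem_of_comm (mem_sup_left (mem_zpowers _)) (m₂ c₁₂))) (sup_le
      (zpowers_le.2 (conj_mem_of_comm (mem_sup_right (mem_sup_left (mem_zpowers _))) (m₂ c₁₃)))
      (sup_le (zpowers_le.2 (conj_mem_of_comm
        (mem_sup_right (mem_sup_right (mem_sup_left (mem_zpowers _)))) (m₂ c₁₄)))
      (zpowers_le.2 (cz z₁ (m₂ (mem_zpowers z)))))))) (p₁ ▸ one_mem _)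
  have k₀ := card_sup_le (N := gen5 v₁ v₂ v₃ v₄ z) (g := b)
    (mem_normalizer_of_le (sup_le (zpowers_le.2 b₁) (sup_le (zpowers_le.2 b₂) (sup_le
      (zpowers_le.2 b₃) (sup_le (zpowers_le.2 b₄) (zpowers_le.2 (cz zb mem_gen₅)))))))
    (pb ▸ one_mem _)
  calc _ ≤ _ := k₀
    _ ≤ p * p * p * p * p * p := by
      gcongr
      refine k₁.trans ?_
      gcongr
      refine k₂.trans ?_
      gcongr
      refine k₃.trans ?_
      gcongr
      refine k₄.trans ?_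
      gcongr
    _ = p ^ 6 := by ring

theorem exists_hom_of_card [Finite G] [Finite H] {D : Subgroup (G × H)}
    (hc : Nat.card D ≤ Nat.card G) (hs : D.map (MonoidHom.fst G H) = ⊤) :
    ∃ φ : G →* H, ∀ d ∈ D, φ d.1 = d.2 := by
  let f : D →* G := (MonoidHom.fst G H).comp D.subtype
  have hf : Function.Surjective f := fun g => by
    obtain ⟨d, hd, e⟩ := hs.ge (mem_top g)
    exact ⟨⟨d, hd⟩, e⟩
  let e := MulEquiv.ofBijective f (hf.bijective_of_nat_card_le hc)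
  refine ⟨((MonoidHom.snd G H).comp D.subtype).comp e.symm.toMonoidHom, fun d hd => ?_⟩
  have : e.symm d.1 = ⟨d, hd⟩ := e.symm_apply_eq.2 rfl
  simp [this]

theorem exists_sylow_equiv [Finite G] [Finite H] [hp : Fact p.Prime] {n : ℕ}
    (hG : Nat.card G = p ^ n) {z : G} (hz : z ^ p = 1) (hZ : center G ≤ zpowers z) (φ : G →* H)
    (hφ : φ z ≠ 1) (hH : ∀ P : Sylow p H, Nat.card P ≤ p ^ n) :
    ∃ P : Sylow p H, Nonempty (G ≃* (P : Subgroup H)) := by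
  have hp' : IsPGroup p G := IsPGroup.of_card hG
  have hi : Function.Injective φ := by
    rw [← MonoidHom.ker_eq_bot_iff]
    by_contra hne
    haveI := hp'.isNilpotent
    obtain ⟨x, hx, hx1, hxc⟩ := Fit.exists_central_mod (N := ⊥) (M := φ.ker)
      fun e => hne (le_bot_iff.1 e)
    have hxZ : x ∈ zpowers z := hZ (Subgroup.mem_center_iff.2 fun g =>
      (commutatorElement_eq_one_iff_commute.1 (mem_bot.1 (hxc g))).eq)
    exact hφ ((zpowers_le.2 hx : zpowers x ≤ φ.ker)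
      ((zpowers_eq_of_mem hz hxZ (fun e => hx1 (e ▸ one_mem _))).ge (mem_zpowers z)))
  obtain ⟨P, hP⟩ := (hp'.of_surjective _ φ.rangeRestrict_surjective).exists_le_sylow
  have : φ.range = P := Fus2.eq_of_le_of_card_le hP ((hH P).trans (by
    rw [← hG, Nat.card_congr (MonoidHom.ofInjective hi).toEquiv]))
  exact ⟨P, ⟨(MonoidHom.ofInjective hi).trans (MulEquiv.subgroupCongr this)⟩⟩

theorem comm_mem_of_eq {x y z : G} {k : ZMod p} (h : x * y = zp z k * (y * x)) :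
    ⁅x, y⁆ ∈ zpowers z := by
  rw [commutatorElement_def, h]
  simpa [mul_assoc] using zp_mem_zpowers z k

theorem comm_mem_of_commute {x y : G} {N : Subgroup G} (h : Commute x y) : ⁅x, y⁆ ∈ N := by
  rw [h.commutator_eq]; exact one_mem _

theorem zp_prod (a : G) (b : H) (k : ZMod p) : zp ((a, b) : G × H) k = (zp a k, zp b k) := rfl

/-- The relations for an automorphism with two Jordan blocks of size two. -/
structure R22 (p : ℕ) (j k l m : ZMod p) (b y c a w z : G) : Prop where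
  pb : b ^ p = 1
  py : y ^ p = 1
  pc : c ^ p = 1
  pa : a ^ p = 1
  pw : w ^ p = 1
  pz : z ^ p = 1
  zb : Commute z b
  zy : Commute z y
  zc : Commute z c
  za : Commute z a
  zw : Commute z w
  b₁ : b * y = y * a * b
  b₂ : b * c = c * w * b
  b₃ : Commute b a
  b₄ : Commute b w
  yc : y * c = zp z j * (c * y)
  ya : y * a = zp z k * (a * y)
  yw : y * w = zp z l * (w * y)
  ca : c * a = zp z l * (a * c)
  cw : c * w = zp z m * (w * c)
  aw : Commute a w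

/-- The relations for an automorphism with one Jordan block of size four. -/
structure RG2 (p : ℕ) (b y a c w z : G) : Prop where
  pb : b ^ p = 1
  py : y ^ p = 1
  pa : a ^ p = 1
  pc : c ^ p = 1
  pw : w ^ p = 1
  pz : z ^ p = 1
  zb : Commute z b
  zy : Commute z y
  za : Commute z a
  zc : Commute z c
  zw : Commute z w
  b₁ : b * y = y * a * b
  b₂ : b * a = a * c * b
  b₃ : b * c = c * w * b
  b₄ : Commute b w
  ya : y * a = z * (a * y)
  yc : y * c = z ^ 6 * (c * y)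
  yw : y * w = z ^ 6 * (w * y)
  ca : c * a = z ^ 6 * (a * c)
  aw : Commute a w
  cw : Commute c w

theorem R22.prod {j k l m : ZMod p} {b y c a w z : G} {b' y' c' a' w' z' : H}
    (h : R22 p j k l m b y c a w z) (h' : R22 p j k l m b' y' c' a' w' z') :
    R22 p j k l m ((b, b') : G × H) (y, y') (c, c') (a, a') (w, w') (z, z') :=
  ⟨Prod.ext h.pb h'.pb, Prod.ext h.py h'.py, Prod.ext h.pc h'.pc, Prod.ext h.pa h'.pa,
    Prod.ext h.pw h'.pw, Prod.ext h.pz h'.pz, Prod.ext h.zb h'.zb, Prod.ext h.zy h'.zy,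
    Prod.ext h.zc h'.zc, Prod.ext h.za h'.za, Prod.ext h.zw h'.zw, Prod.ext h.b₁ h'.b₁,
    Prod.ext h.b₂ h'.b₂, Prod.ext h.b₃ h'.b₃, Prod.ext h.b₄ h'.b₄, Prod.ext h.yc h'.yc,
    Prod.ext h.ya h'.ya, Prod.ext h.yw h'.yw, Prod.ext h.ca h'.ca, Prod.ext h.cw h'.cw,
    Prod.ext h.aw h'.aw⟩

theorem RG2.prod {b y a c w z : G} {b' y' a' c' w' z' : H}
    (h : RG2 p b y a c w z) (h' : RG2 p b' y' a' c' w' z') :
    RG2 p ((b, b') : G × H) (y, y') (a, a') (c, c') (w, w') (z, z') :=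
  ⟨Prod.ext h.pb h'.pb, Prod.ext h.py h'.py, Prod.ext h.pa h'.pa, Prod.ext h.pc h'.pc,
    Prod.ext h.pw h'.pw, Prod.ext h.pz h'.pz, Prod.ext h.zb h'.zb, Prod.ext h.zy h'.zy,
    Prod.ext h.za h'.za, Prod.ext h.zc h'.zc, Prod.ext h.zw h'.zw, Prod.ext h.b₁ h'.b₁,
    Prod.ext h.b₂ h'.b₂, Prod.ext h.b₃ h'.b₃, Prod.ext h.b₄ h'.b₄, Prod.ext h.ya h'.ya,
    Prod.ext h.yc h'.yc, Prod.ext h.yw h'.yw, Prod.ext h.ca h'.ca, Prod.ext h.aw h'.aw,
    Prod.ext h.cw h'.cw⟩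

theorem R22.of_injective {j k l m : ZMod p} (f : G →* H) (hf : Function.Injective f)
    {b y c a w z : G} (h : R22 p j k l m (f b) (f y) (f c) (f a) (f w) (f z)) :
    R22 p j k l m b y c a w z := by
  have c : ∀ {s t : G}, Commute (f s) (f t) → Commute s t := fun e =>
    hf (by simpa using e.eq)
  have q : ∀ {s : G}, f s ^ p = 1 → s ^ p = 1 := fun e => hf (by simpa using e)
  exact ⟨q h.pb, q h.py, q h.pc, q h.pa, q h.pw, q h.pz, c h.zb, c h.zy, c h.zc, c h.za, c h.zw,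
    hf (by simpa using h.b₁), hf (by simpa using h.b₂), c h.b₃, c h.b₄,
    hf (by simpa [map_zp] using h.yc), hf (by simpa [map_zp] using h.ya),
    hf (by simpa [map_zp] using h.yw), hf (by simpa [map_zp] using h.ca),
    hf (by simpa [map_zp] using h.cw), c h.aw⟩

theorem R22.map {j k l m : ZMod p} (f : G →* H) {b y c a w z : G}
    (h : R22 p j k l m b y c a w z) : R22 p j k l m (f b) (f y) (f c) (f a) (f w) (f z) := by
  have q : ∀ {s : G}, s ^ p = 1 → f s ^ p = 1 := fun e => by rw [← map_pow, e, map_one]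
  exact ⟨q h.pb, q h.py, q h.pc, q h.pa, q h.pw, q h.pz, h.zb.map f, h.zy.map f, h.zc.map f,
    h.za.map f, h.zw.map f, by simpa using congrArg f h.b₁, by simpa using congrArg f h.b₂,
    h.b₃.map f, h.b₄.map f, by simpa [map_zp] using congrArg f h.yc,
    by simpa [map_zp] using congrArg f h.ya, by simpa [map_zp] using congrArg f h.yw,
    by simpa [map_zp] using congrArg f h.ca, by simpa [map_zp] using congrArg f h.cw, h.aw.map f⟩

theorem RG2.of_injective (f : G →* H) (hf : Function.Injective f)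
    {b y a c w z : G} (h : RG2 p (f b) (f y) (f a) (f c) (f w) (f z)) : RG2 p b y a c w z := by
  have c : ∀ {s t : G}, Commute (f s) (f t) → Commute s t := fun e =>
    hf (by simpa using e.eq)
  have q : ∀ {s : G}, f s ^ p = 1 → s ^ p = 1 := fun e => hf (by simpa using e)
  exact ⟨q h.pb, q h.py, q h.pa, q h.pc, q h.pw, q h.pz, c h.zb, c h.zy, c h.za, c h.zc, c h.zw,
    hf (by simpa using h.b₁), hf (by simpa using h.b₂), hf (by simpa using h.b₃), c h.b₄,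
    hf (by simpa using h.ya), hf (by simpa using h.yc), hf (by simpa using h.yw),
    hf (by simpa using h.ca), c h.aw, c h.cw⟩

theorem conj_mem_of_eq {N : Subgroup G} {b x y : G} (h : b * x = x * y * b) (hx : x ∈ N)
    (hy : y ∈ N) : b * x * b⁻¹ ∈ N := by
  rw [h, mul_inv_cancel_right]; exact N.mul_mem hx hy

theorem conj_mem_of_commute {N : Subgroup G} {b x : G} (h : Commute b x) (hx : x ∈ N) :
    b * x * b⁻¹ ∈ N := by
  rwa [h.eq, mul_inv_cancel_right]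

theorem comm_mem_of_eq' {x y z : G} {k : ℕ} (h : x * y = z ^ k * (y * x)) :
    ⁅x, y⁆ ∈ zpowers z := by
  rw [commutatorElement_def, h]
  simp [mul_assoc]

variable [Finite G] [hp : Fact p.Prime]

theorem R22.card_le {j k l m : ZMod p} {b y c a w z : G} (h : R22 p j k l m b y c a w z) :
    Nat.card (zpowers b ⊔ gen5 y c a w z : Subgroup G) ≤ p ^ 6 :=
  card_le_six h.pb h.py h.pc h.pa h.pw h.pz h.zb h.zy h.zc h.za h.zw (comm_mem_of_eq h.yc)
    (comm_mem_of_eq h.ya) (comm_mem_of_eq h.yw) (comm_mem_of_eq h.ca) (comm_mem_of_eq h.cw)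
    (comm_mem_of_commute h.aw) (conj_mem_of_eq h.b₁ mem_gen₁ mem_gen₃)
    (conj_mem_of_eq h.b₂ mem_gen₂ mem_gen₄) (conj_mem_of_commute h.b₃ mem_gen₃)
    (conj_mem_of_commute h.b₄ mem_gen₄)

theorem RG2.card_le {b y a c w z : G} (h : RG2 p b y a c w z) :
    Nat.card (zpowers b ⊔ gen5 y a c w z : Subgroup G) ≤ p ^ 6 :=
  card_le_six h.pb h.py h.pa h.pc h.pw h.pz h.zb h.zy h.za h.zc h.zw
    (comm_mem_of_eq' (k := 1) (by simpa using h.ya))
    (comm_mem_of_eq' h.yc) (comm_mem_of_eq' h.yw) (comm_mem_symm (comm_mem_of_eq' h.ca))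
    (comm_mem_of_commute h.aw) (comm_mem_of_commute h.cw)
    (conj_mem_of_eq h.b₁ mem_gen₁ mem_gen₂)
    (conj_mem_of_eq h.b₂ mem_gen₂ mem_gen₃)
    (conj_mem_of_eq h.b₃ mem_gen₃ mem_gen₄) (conj_mem_of_commute h.b₄ mem_gen₄)

omit [Finite G] hp in
theorem map_gen (f : G →* H) (b v₁ v₂ v₃ v₄ z : G) : (zpowers b ⊔ gen5 v₁ v₂ v₃ v₄ z).map f =
    zpowers (f b) ⊔ gen5 (f v₁) (f v₂) (f v₃) (f v₄) (f z) := by
  simp only [gen5, Subgroup.map_sup, MonoidHom.map_zpowers]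

variable [Finite H] (hG : Nat.card G = p ^ 6) (hH : ∀ P : Sylow p H, Nat.card P ≤ p ^ 6)
include hG hH

theorem R22.exists_equiv {j k l m : ZMod p} {b y c a w z : G} {b' y' c' a' w' z' : H}
    (h : R22 p j k l m b y c a w z) (h' : R22 p j k l m b' y' c' a' w' z')
    (hg : zpowers b ⊔ gen5 y c a w z = ⊤) (hZ : center G ≤ zpowers z) (hz : z' ≠ 1) :
    ∃ P : Sylow p H, Nonempty (G ≃* (P : Subgroup H)) := by
  obtain ⟨φ, hφ⟩ := exists_hom_of_card (hG ▸ (h.prod h').card_le) (by rw [map_gen]; exact hg)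
  exact exists_sylow_equiv hG h.pz hZ φ
    ((hφ (z, z') (mem_sup_right mem_gen₅)).trans_ne hz) hH

theorem RG2.exists_equiv {b y a c w z : G} {b' y' a' c' w' z' : H}
    (h : RG2 p b y a c w z) (h' : RG2 p b' y' a' c' w' z')
    (hg : zpowers b ⊔ gen5 y a c w z = ⊤) (hZ : center G ≤ zpowers z) (hz : z' ≠ 1) :
    ∃ P : Sylow p H, Nonempty (G ≃* (P : Subgroup H)) := by
  obtain ⟨φ, hφ⟩ := exists_hom_of_card (hG ▸ (h.prod h').card_le) (by rw [map_gen]; exact hg)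
  exact exists_sylow_equiv hG h.pz hZ φ
    ((hφ (z, z') (mem_sup_right mem_gen₅)).trans_ne hz) hH

end Cfsg.Agent.XE
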