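import Cfsg.Agent.Lib.XE.Ident
import Cfsg.Agent.Lib.Ess.Loc3

/-!
An essential subgroup of maximal order among those moving the centre.
-/

set_option autoImplicit false
set_option linter.style.haveILetI false
set_option linter.unusedVariables false
set_option linter.unusedSectionVars false

namespace Cfsg.Agent.XE

open Subgroup Cfsg.Agent.Fus Cfsg.Agent.TwoGrp Cfsg.Agent.Ess Module
open Cfsg.Agent.Fus2 (M afn img HomOn)
open FusionSystem (normalizerIn centralizerIn)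
open scoped commutatorElement

universe u

variable {Ω : Type u} [Group Ω] {p : ℕ} [hp : Fact p.Prime]
  {V : Type*} [AddCommGroup V] [Module (ZMod p) V]

omit hp in
theorem dl_mul_left (g k x : Ω) : dl (g * k) x = dl g x * (g * dl k x * g⁻¹) := by
  simp only [dl]; group

omit hp in
theorem dl_inv_left (g x : Ω) : dl g⁻¹ x = g⁻¹ * (dl g x)⁻¹ * g := by
  simp only [dl]; group

omit hp in
theorem dl_pow {g x : Ω} (h : Commute g (dl g x)) (n : ℕ) : dl (g ^ n) x = dl g x ^ n := by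
  induction n with
  | zero => simp [dl]
  | succ n ih => rw [pow_succ, dl_mul_left, ih, (h.pow_left n).eq, mul_inv_cancel_right, pow_succ]

omit hp in
theorem homOn_dl {P : Subgroup Ω} {f : Ω → Ω} (h : HomOn P f) {g x : Ω} (hg : g ∈ P)
    (hx : x ∈ P) : f (dl g x) = dl (f g) (f x) := by
  rw [dl_eq_comm, dl_eq_comm, h.map_comm (inv_mem hx) hg, h.map_inv hx]

omit hp in
theorem homOn_mem_zpowers {P K : Subgroup Ω} {f : Ω → Ω} (h : HomOn P f) {z x : Ω} (hz : z ∈ P)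
    (hx : x ∈ zpowers z) (e : f z ∈ K) : f x ∈ K := by
  obtain ⟨k, rfl⟩ := hx
  exact h.map_zpow hz k ▸ zpow_mem e k

namespace Xs

variable {S Q : Subgroup Ω} [Finite S] [Finite V] {z : Ω} {π : Ω → V}
  {B : LinearMap.BilinForm (ZMod p) V} (h : Xs p S Q z π B) {F : FusionSystem S}
include h

theorem Z_le_pre (W : Submodule (ZMod p) V) : zpowers z ≤ h.lq.pre W :=
  zpowers_le.2 ⟨h.mem, h.πz ▸ W.zero_mem⟩

theorem card_pre (W : Submodule (ZMod p) V) :
    Nat.card (h.lq.pre W) = p ^ (finrank (ZMod p) W + 1) := by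
  have e : h.lq.im (p := p) (h.lq.pre W) = W := le_antisymm
    (by rintro _ ⟨x, -, hx, rfl⟩; exact hx.2) fun v hv => by
      obtain ⟨x, hx, rfl⟩ := h.lq.surj v
      exact h.lq.mem_im_of hx ⟨hx, hv⟩
  rw [h.lq.card_eq (p := p) (h.Z_le_pre W) fun x hx => hx.1, e, h.card_Z, pow_succ']

theorem conj_Z {s x : Ω} (hs : s ∈ S) (hx : x ∈ zpowers z) : s * x * s⁻¹ = x :=
  conj_eq_iff_commute.2 (h.cenZ hx hs).symm

theorem dl_mem_Z_of {s x b : Ω} (hs : s ∈ S) (hsQ : s ∉ Q) (hx : x ∈ Q)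
    (e : dl s x ∈ zpowers z) (hb : b ∈ S) : dl b x ∈ zpowers z := by
  let H : Subgroup Ω :=
    { carrier := {g | g ∈ S ∧ dl g x ∈ zpowers z}
      one_mem' := ⟨one_mem _, by simp [dl]⟩
      mul_mem' := fun {g k} hg hk => ⟨mul_mem hg.1 hk.1, by
        rw [dl_mul_left, h.conj_Z hg.1 hk.2]; exact mul_mem hg.2 hk.2⟩
      inv_mem' := fun {g} hg => ⟨inv_mem hg.1, by
        have := h.conj_Z (inv_mem hg.1) (inv_mem hg.2)
        rw [inv_inv] at this
        rw [dl_inv_left, this]; exact inv_mem hg.2⟩ }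
  exact ((h.sup_eq hs hsQ).ge.trans (sup_le (zpowers_le.2 ⟨hs, e⟩ : _ ≤ H) fun q hq =>
    ⟨h.le hq, dl_eq_comm q x ▸ h.comm_mem (inv_mem hx) hq⟩) hb).2

theorem exists_conj_eq {g m : Ω} (hg : g ∈ S) (e : dl g m ∈ zpowers z) (hc : ¬ Commute g m)
    {y : Ω} (hy : y ∈ zpowers z) : ∃ n : ℕ, g ^ n * m * (g ^ n)⁻¹ = m * y := by
  haveI := finite_of_le (h.Z_le.trans h.le)
  obtain ⟨n, rfl⟩ := (mem_zpowers_iff_zp (pow_eq_one_of_mem_zpowers h.pow e)).1
    ((zpowers_eq_of_mem h.pow e (mt dl_eq_one.1 hc)).ge hy)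
  exact ⟨n.val, by rw [← mul_dl, dl_pow (h.cenZ e hg).symm, zp_val]⟩

theorem map_z {f : Ω → Ω} (hf : M F S f) : f z ∈ zpowers z :=
  have := mem_cen.1 (M.mem_cen hf (mem_cen.2 ⟨h.le h.mem, h.cen⟩))
  h.cenS _ this.1 fun y hy => this.2 y (h.le hy)

theorem inv_Q {f : Ω → Ω} (hf : M F S f) {b : Ω} (hb : b ∈ S) {N : Module.End (ZMod p) V}
    (hN : IsN Q π b N) (hr : 2 ≤ finrank (ZMod p) (LinearMap.range N)) : ∀ x ∈ Q, f x ∈ Q := by
  intro x hx
  by_contra hxQ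
  have hf' := hf.mono h.le
  have hD : Q ⊓ img Q f ≤ h.lq.pre (LinearMap.ker N) := by
    rintro _ ⟨hy, hy'⟩
    obtain ⟨y, hyQ, rfl⟩ := hf'.mem_img.1 hy'
    refine ⟨hy, (h.dl_mem_Z hb hN hy).1 (h.dl_mem_Z_of (hf'.mem hx) hxQ hy ?_ hb)⟩
    rw [← homOn_dl hf'.homOn hx hyQ]
    exact homOn_mem_zpowers hf'.homOn h.mem (dl_eq_comm x y ▸ h.comm_mem (inv_mem hyQ) hx)
      (h.map_z hf)
  haveI := finite_of_le (show h.lq.pre (LinearMap.ker N) ≤ S from fun x hx => h.le hx.1)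
  have h₁ := (card_le_mul_of_relIndex_le ((relIndex_le_of_le_right hf'.img_le
    (h.idx.trans_ne hp.out.ne_zero)).trans h.idx.le)).trans
    (Nat.mul_le_mul_left p (card_le_of_le hD))
  rw [hf'.card_img, h.card_Q, h.card_pre, ← pow_succ', Nat.pow_le_pow_iff_right hp.out.one_lt] at h₁
  have := N.finrank_range_add_finrank_ker
  omega

end Xs

/-- `E` is an essential subgroup of maximal order among those moving `⟨z⟩`. -/
structure Su (p : ℕ) [Fact p.Prime] {V : Type*} [AddCommGroup V] [Module (ZMod p) V]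
    {S : Subgroup Ω} (F : FusionSystem S) (Q E : Subgroup Ω) (z : Ω) (π : Ω → V)
    (B : LinearMap.BilinForm (ZMod p) V) : Prop extends Xs p S Q z π B where
  sat : F.IsSaturated p
  ess : F.IsEssential p E
  four : 4 ≤ finrank (ZMod p) V
  nle : ¬ E ≤ Q
  semi : ∀ α ∈ F.autGroup E, afn α z ∉ zpowers z → ∀ s ∈ S, Commute s (afn α z) → s ∈ E

variable {S Q E : Subgroup Ω} [Finite S] [Finite V] {z : Ω} {π : Ω → V}
  {B : LinearMap.BilinForm (ZMod p) V} {F : FusionSystem S}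

theorem exists_su (h : Xs p S Q z π B) (hF : F.IsSaturated p) (hO : F.core = ⊥)
    (hQ : IsExtraspecial p Q) (h4 : 4 ≤ finrank (ZMod p) V) :
    ∃ E, Su p F Q E z π B ∧ ∃ θ ∈ F.autGroup E, afn θ z ∉ zpowers z := by
  have hzc : z ∈ centralizerIn S S := mem_cen.2 ⟨h.le h.mem, h.cen⟩
  have hex : {E | F.IsEssential p E ∧ ∃ α ∈ F.autGroup E, afn α z ∉ zpowers z}.Nonempty := by
    by_contra hne
    refine h.ne (mem_bot.1 ((eq_bot_of_isNormal hO (isNormal_of_essential h.pg hF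
      (Q := zpowers z) fun E hE => ?_)).le (mem_zpowers z)))
    have hzE : z ∈ E := hE.elim (fun e => e ▸ hzc.1) fun e => cen_le_of_centric e.1 hzc
    refine ⟨zpowers_le.2 hzE, fun α hα x hx => homOn_mem_zpowers (Fus2.homOn_afn α) hzE hx ?_⟩
    rcases hE with rfl | hE
    · exact h.map_z (M_afn le_rfl hα)
    · exact not_not.1 fun e => hne ⟨E, hE, α, hα, e⟩
  obtain ⟨E, ⟨hE, θ, hθ, hθz⟩, hmax⟩ := Set.exists_max_image _ (fun E : Subgroup Ω => Nat.card E)
    ((finite_subgroups_le (S := S)).subset fun E hE => hE.1.1.1) hex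
  have hzE := cen_le_of_centric hE.1 hzc
  have big : ∀ P f, M F P f → z ∈ P → Nat.card E < Nat.card P → f z ∈ zpowers z :=
    fun P f hf hz hc => alperin_M h.pg hF (C := fun f => f z ∈ zpowers z)
      (fun f g hf e => e z hz ▸ hf) (fun _ => mem_zpowers z) (fun f E' α hE' hα hf hC hfE => by
        rcases hE' with rfl | hE'
        · exact homOn_mem_zpowers (Fus2.homOn_afn α) hzc.1 hC (h.map_z (M_afn le_rfl hα))
        · haveI := finite_of_le hE'.1.1
          exact homOn_mem_zpowers (Fus2.homOn_afn α) (cen_le_of_centric hE'.1 hzc) hC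
            (not_not.1 fun e => (hc.trans_le (hf.card_img ▸ card_le_of_le
              (Fus2.img_le_iff.2 hfE))).not_ge (hmax E' ⟨hE', α, hα, e⟩))) hf
  have hcom : ∀ α : MulAut E, ∀ x ∈ E, Commute x (afn α z) := fun α x hx => by
    simpa using afn_commute α (Fus2.afn_mem α⁻¹ hx) hzE
      (h.cen _ (hE.1.1 (Fus2.afn_mem α⁻¹ hx))).symm
  refine ⟨E, ⟨h, hF, hE, h4, fun hEQ => hθz ?_, fun α hα hαz s hs hc => ?_⟩, θ, hθ, hθz⟩
  · obtain rfl := eq_of_le_extraspecial h.pg hF h.le hQ h.idx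
      (h.card_S ▸ Nat.pow_le_pow_right hp.out.pos (by omega)) hE hEQ
    exact h.cenS _ (h.le (Fus2.afn_mem θ hzE)) fun y hy => (hcom θ y hy).symm
  · have hwE := Fus2.afn_mem α hzE
    have hf := (M_afn hE.1.1 (inv_mem hα)).mono (zpowers_le.2 hwE)
    have hcen : centralizerIn S (img (zpowers (afn α z)) (afn α⁻¹)) = S :=
      inf_eq_left.2 fun y hy x hx => (h.cenZ (Fus2.img_le_iff.2 (fun x hx =>
        homOn_mem_zpowers (Fus2.homOn_afn _) hwE hx (by simp)) hx) hy).eq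
    obtain ⟨g, hg, eg⟩ := Fus2.sat_ext_centralizer h.pg hF hf ⟨hf.img_le, fun R _ => by
      rw [hcen]; exact card_le_of_le (centralizerIn_le R)⟩
    have hm : ∀ y ∈ S, Commute y (afn α z) →
        y ∈ zpowers (afn α z) ⊔ centralizerIn S (zpowers (afn α z)) := fun y hy e =>
      mem_sup_right ⟨hy, fun x hx => (commute_of_zpowers e.symm x hx).eq⟩
    by_contra hsE
    haveI := finite_of_le hg.le
    obtain ⟨g', hg', e'⟩ := hg.inv
    have hw := mem_sup_left (T := centralizerIn S (zpowers (afn α z))) (mem_zpowers (afn α z))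
    have ez : g (afn α z) = z := (eg _ (mem_zpowers _)).trans (Fus2.afn_inv_afn α z)
    have hz' := Fus2.mem_img_of_mem g hw
    have e'' := e' _ hw
    rw [ez] at hz' e''
    refine hαz (e'' ▸ big _ g' hg' hz' ?_)
    rw [hg.card_img]
    exact Fus2.card_lt_of_lt (lt_of_le_not_ge (fun x hx => hm x (hE.1.1 hx) (hcom α x hx))
      fun e => hsE (e (hm s hs hc)))

namespace Su

variable (h : Su p F Q E z π B)
include h

theorem leS : E ≤ S := h.ess.1.1

theorem zE : z ∈ E := cen_le_of_centric h.ess.1 (mem_cen.2 ⟨h.le h.mem, h.cen⟩)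

theorem ZE : zpowers z ≤ E := zpowers_le.2 h.zE

theorem commute_afn (α : MulAut E) {x : Ω} (hx : x ∈ E) : Commute x (afn α z) := by
  simpa using afn_commute α (Fus2.afn_mem α⁻¹ hx) h.zE
    (h.cen _ (h.leS (Fus2.afn_mem α⁻¹ hx))).symm

theorem afn_Z {α : MulAut E} {x : Ω} (hx : x ∈ zpowers z) : afn α x ∈ zpowers (afn α z) :=
  homOn_mem_zpowers (Fus2.homOn_afn α) h.zE hx (mem_zpowers _)

theorem afn_pow (α : MulAut E) : afn α z ^ p = 1 := afn_pow_eq_one α h.zE h.pow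

theorem inv_not_mem {α : MulAut E} (e : afn α z ∉ zpowers z) : afn α⁻¹ z ∉ zpowers z := fun e' =>
  e ((zpowers_eq_of_mem (h.afn_pow α) (by simpa using h.afn_Z (α := α) e') h.ne).ge
    (mem_zpowers _))

theorem eq_one {α : MulAut E} (e : afn α z ∉ zpowers z) {x : Ω} (h₁ : x ∈ zpowers z)
    (h₂ : x ∈ zpowers (afn α z)) : x = 1 := not_not.1 fun hx => e (zpowers_le.2 h₁
  ((zpowers_eq_of_mem (h.afn_pow α) h₂ hx).ge (mem_zpowers _)))

/-- The Frattini argument for a normal essential subgroup. -/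
theorem exists_ext (hn : S ≤ normalizer (E : Set Ω)) {C : Subgroup Ω} (hZ : zpowers z ≤ C)
    (hC : C ≤ E) (hs : ∀ s ∈ S, ∀ x ∈ C, dl s x ∈ zpowers z) {τ : MulAut E}
    (hτ : τ ∈ F.autGroup E) (h₁ : ∀ x ∈ C, afn τ x ∈ C) (h₂ : afn τ z ∈ zpowers z) :
    ∃ f, M F S f ∧ f z = afn τ z ∧ ∀ x ∈ C, (afn τ x)⁻¹ * f x ∈ zpowers z := by
  haveI := finite_of_le h.leS
  let K := F.autGroup E ⊓ (trivSub (C.subgroupOf E) ((zpowers z).subgroupOf E) (comap_mono hZ) ⊓
    trivSub ((zpowers z).subgroupOf E) ⊥ bot_le)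
  have hT := (sat_sylow h.pg h.sat h.ess.2.1).of_le (K := K) (fun t ht => by
    refine ⟨autInducedBy_le_autGroup h.leS ht, ?_⟩
    obtain ⟨s, hsS, e⟩ := Fus2.mem_autInducedBy_iff.1 ht
    exact ⟨trivOn_subgroupOf_iff.2 fun x hx hxC => e x hx ▸ hs s hsS x hxC,
      trivOn_bot_iff.2 fun x hx => Subtype.ext (by
        rw [← Fus2.afn_apply t x.2, e x x.2, h.conj_Z (x := x) hsS hx])⟩) inf_le_left
  have i₁ : Inv (zpowers τ) (C.subgroupOf E) := inv_zpowers_iff.2 fun x hx => by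
    have := h₁ x hx
    rwa [Fus2.afn_apply τ x.2] at this
  have i₂ : Inv (zpowers τ) ((zpowers z).subgroupOf E) := inv_zpowers_iff.2 fun x hx => by
    have := homOn_mem_zpowers (x := x) (Fus2.homOn_afn τ) h.zE hx h₂
    rwa [Fus2.afn_apply τ x.2] at this
  haveI : Finite (K : Set (MulAut E)) := Set.toFinite _
  obtain ⟨k, hk, hkN⟩ := hT.frattini (g := τ) (mem_normalizer_fintype fun k hk =>
    ⟨(F.autGroup E).mul_mem (mul_mem hτ hk.1) (inv_mem hτ), TrivOn.conj hk.2.1 (i₁ _ (inv_mem (mem_zpowers τ)))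
      (i₂ _ (mem_zpowers τ)), TrivOn.conj hk.2.2 (i₂ _ (inv_mem (mem_zpowers τ)))
      (inv_bot _ _ (mem_top τ))⟩)
  obtain ⟨f, hf, -, e⟩ := exists_ext_normalizerIn h.pg h.sat h.ess.2.1 (mul_mem hk.1 hτ) hkN
  refine ⟨f, hf.mono (le_inf le_rfl hn), ?_, fun x hx => ?_⟩
  · rw [e z h.zE, Fus2.afn_mul, Fus2.afn_apply k (h.ZE h₂)]
    exact congrArg Subtype.val (trivOn_bot_iff.1 hk.2.2 ⟨_, h.ZE h₂⟩ h₂)
  · rw [e x (hC hx), Fus2.afn_mul]
    exact trivOn_subgroupOf_iff.1 hk.2.1 _ (hC (h₁ x hx)) (h₁ x hx)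

end Su

end Cfsg.Agent.XE
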